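import Groth.Agent.LimitsH94.Approx.Main
import Mathlib.AlgebraicGeometry.Morphisms.FinitePresentation

/-! A morphism is a limit of morphisms of schemes of finite type over the integers. -/

set_option autoImplicit false
set_option backward.isDefEq.respectTransparency false
set_option backward.isDefEq.respectTransparency.types false
set_option linter.style.haveILetI false
universe u

open CategoryTheory Limits AlgebraicGeometry Opposite TopologicalSpace

namespace Groth.Agent.LimitsH94.Approx

variable {X S T : Scheme.{u}}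

theorem isLFP_toTerminal {Y : Scheme.{u}} (h : FTZ Y) :
    LocallyOfFinitePresentation (Limits.IsTerminal.from specULiftZIsTerminal Y) := by
  haveI := h.2
  haveI : IsNoetherianRing (CommRingCat.of (ULift.{u} ℤ)) :=
    isNoetherianRing_of_ringEquiv ℤ (ULift.ringEquiv : ULift.{u} ℤ ≃+* ℤ).symm
  exact LocallyOfFinitePresentation.iff_locallyOfFiniteType.mpr inferInstance

theorem lft_of_ftz {Y Z : Scheme.{u}} (hY : FTZ Y) (g : Y ⟶ Z) : LocallyOfFiniteType g := by
  haveI := hY.2
  haveI : LocallyOfFiniteType (g ≫ Limits.IsTerminal.from specULiftZIsTerminal Z) := by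
    rw [specULiftZIsTerminal.hom_ext (g ≫ Limits.IsTerminal.from specULiftZIsTerminal Z)
      (Limits.IsTerminal.from specULiftZIsTerminal Y)]
    infer_instance
  exact locallyOfFiniteType_of_comp g (Limits.IsTerminal.from specULiftZIsTerminal Z)

/-- A morphism to a scheme of finite type over the integers comes from a stage. -/
theorem Appr.exists_stage_hom (A : Appr X) {Y : Scheme.{u}} (hY : FTZ Y) (g : X ⟶ Y) :
    ∃ (a : A.I) (h : A.D.obj (op a) ⟶ Y), A.pr a ≫ h = g := by
  haveI := isLFP_toTerminal hY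
  obtain ⟨i, h, hh, -⟩ := Scheme.exists_π_app_comp_eq_of_locallyOfFinitePresentation A.D
    { app := fun i => Limits.IsTerminal.from specULiftZIsTerminal (A.D.obj i)
      naturality := fun i j f => specULiftZIsTerminal.hom_ext _ _ }
    (Limits.IsTerminal.from specULiftZIsTerminal Y) (Cone.mk X A.π) A.lim g
    (NatTrans.ext (funext fun i => specULiftZIsTerminal.hom_ext _ _))
  exact ⟨i.unop, h, hh⟩

theorem Appr.exists_stage_eq (A : Appr X) {Y : Scheme.{u}} (hY : FTZ Y) {a : A.I}
    (g g' : A.D.obj (op a) ⟶ Y) (e : A.pr a ≫ g = A.pr a ≫ g') :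
    ∃ (b : A.I) (h : a ≤ b), A.tr h ≫ g = A.tr h ≫ g' := by
  haveI := hY.2
  obtain ⟨k, hk, hh⟩ := Scheme.exists_hom_comp_eq_comp_of_locallyOfFiniteType A.D
    { app := fun i => Limits.IsTerminal.from specULiftZIsTerminal (A.D.obj i)
      naturality := fun i j f => specULiftZIsTerminal.hom_ext _ _ }
    (Limits.IsTerminal.from specULiftZIsTerminal Y) (Cone.mk X A.π) A.lim g g'
    (specULiftZIsTerminal.hom_ext _ _) (specULiftZIsTerminal.hom_ext _ _) e
  exact ⟨k.unop, leOfHom hk.unop, by rw [A.map_eq hk] at hh; exact hh⟩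

/-- Reindexing along a cofinal monotone map. -/
noncomputable def Appr.reindex (A : Appr X) (J : Type u) [Preorder J] [IsDirected J (fun a b => a ≤ b)]
    [Nonempty J] (f : J →o A.I) (hf : ∀ a, ∃ j, a ≤ f j) : Appr X where
  I := J
  D :=
    { obj := fun j => A.D.obj (op (f j.unop))
      map := fun g => A.tr (f.mono (leOfHom g.unop))
      map_id := fun j => A.tr_self _
      map_comp := fun g h => (A.tr_tr _ _).symm }
  aff _ _ _ := inferInstanceAs (IsAffineHom (A.tr _))
  ftz _ := A.ftz _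
  π :=
    { app := fun j => A.pr (f j.unop)
      naturality := fun i j g => (Category.id_comp _).trans (A.pr_tr _).symm }
  lim :=
    { lift := fun s => (A.exists_lift_above f hf (fun j => s.π.app (op j))
        fun a b h => s.w (homOfLE h).op).choose
      fac := fun s j => (A.exists_lift_above f hf (fun j => s.π.app (op j))
        fun a b h => s.w (homOfLE h).op).choose_spec j.unop
      uniq := fun s m hm => A.hom_ext_above f hf fun j =>
        (hm (op j)).trans ((A.exists_lift_above f hf (fun j => s.π.app (op j))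
          fun a b h => s.w (homOfLE h).op).choose_spec j).symm }

/-- Pairs of stages with a morphism. -/
structure MorIdx (f : X ⟶ S) (A : Appr X) (B : Appr S) : Type u where
  fst : A.I
  snd : B.I
  hom : A.D.obj (op fst) ⟶ B.D.obj (op snd)
  w : A.pr fst ≫ hom = f ≫ B.pr snd

variable {f : X ⟶ S} {A : Appr X} {B : Appr S}

instance : Preorder (MorIdx f A B) where
  le i j := ∃ (ha : i.fst ≤ j.fst) (hb : i.snd ≤ j.snd), A.tr ha ≫ i.hom = j.hom ≫ B.tr hb
  le_refl i := ⟨le_rfl, le_rfl, by rw [A.tr_self, B.tr_self, Category.id_comp, Category.comp_id]⟩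
  le_trans i j k := fun ⟨a, b, e⟩ ⟨a', b', e'⟩ => ⟨a.trans a', b.trans b', by
    rw [← A.tr_tr a a', Category.assoc, e, ← Category.assoc, e', Category.assoc, B.tr_tr]⟩

theorem MorIdx.exists_above (a : A.I) (b : B.I) : ∃ i : MorIdx f A B, a ≤ i.fst ∧ i.snd = b := by
  obtain ⟨a', h, hh⟩ := A.exists_stage_hom (B.ftz (op b)) (f ≫ B.pr b)
  obtain ⟨c, h1, h2⟩ := exists_ge_ge a a'
  exact ⟨⟨c, b, A.tr h2 ≫ h, by rw [A.pr_tr_assoc, hh]⟩, h1, rfl⟩

instance : Nonempty (MorIdx f A B) :=
  (MorIdx.exists_above (Classical.arbitrary A.I) (Classical.arbitrary B.I)).nonempty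

instance : IsDirected (MorIdx f A B) (fun i j => i ≤ j) := ⟨fun i j => by
  obtain ⟨b, hb1, hb2⟩ := exists_ge_ge i.snd j.snd
  obtain ⟨a₀, ha1, ha2⟩ := exists_ge_ge i.fst j.fst
  obtain ⟨⟨a, b', h, w⟩, ha, hb⟩ := MorIdx.exists_above (f := f) (A := A) (B := B) a₀ b
  obtain rfl : b' = b := hb
  obtain ⟨c, hc, ec⟩ := A.exists_stage_eq (B.ftz (op i.snd)) (A.tr (ha1.trans ha) ≫ i.hom) (h ≫ B.tr hb1) (by
    rw [A.pr_tr_assoc, reassoc_of% w, i.w, B.pr_tr])
  obtain ⟨d, hd, ed⟩ := A.exists_stage_eq (B.ftz (op j.snd)) (A.tr ((ha2.trans ha).trans hc) ≫ j.hom)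
    (A.tr hc ≫ h ≫ B.tr hb2) (by rw [A.pr_tr_assoc, A.pr_tr_assoc, reassoc_of% w, j.w, B.pr_tr])
  refine ⟨⟨d, b', A.tr (hc.trans hd) ≫ h, by rw [A.pr_tr_assoc, w]⟩, ⟨((ha1.trans ha).trans hc).trans hd, hb1, ?_⟩,
    ⟨((ha2.trans ha).trans hc).trans hd, hb2, ?_⟩⟩
  · have := A.tr hd ≫= ec
    simpa using this
  · simpa using ed⟩

/-- The first index. -/
def MorIdx.fstHom : MorIdx f A B →o A.I := ⟨MorIdx.fst, fun _ _ h => h.1⟩

/-- The second index. -/
def MorIdx.sndHom : MorIdx f A B →o B.I := ⟨MorIdx.snd, fun _ _ h => h.2.1⟩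

theorem MorIdx.cof_fst (a : A.I) : ∃ i : MorIdx f A B, a ≤ MorIdx.fstHom i :=
  (MorIdx.exists_above a (Classical.arbitrary B.I)).elim fun i hi => ⟨i, hi.1⟩

theorem MorIdx.cof_snd (b : B.I) : ∃ i : MorIdx f A B, b ≤ MorIdx.sndHom i :=
  (MorIdx.exists_above (Classical.arbitrary A.I) b).elim fun i hi => ⟨i, hi.2.ge⟩

/-- A morphism is the limit of morphisms between schemes of finite type over the integers. -/
theorem exists_arrow [CompactSpace X] [QuasiSeparatedSpace X] [CompactSpace S] [QuasiSeparatedSpace S]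
    (f : X ⟶ S) : ∃ (J : Type u) (_ : Preorder J) (_ : IsDirected J (fun a b => a ≤ b)) (_ : Nonempty J)
      (DX DS : Jᵒᵖ ⥤ Scheme.{u}) (φ : DX ⟶ DS) (πX : (Functor.const Jᵒᵖ).obj X ⟶ DX)
      (πS : (Functor.const Jᵒᵖ).obj S ⟶ DS) (_ : IsLimit (Cone.mk X πX)) (_ : IsLimit (Cone.mk S πS)),
      (∀ (i j : Jᵒᵖ) (a : i ⟶ j), IsAffineHom (DX.map a) ∧ IsAffineHom (DS.map a)) ∧
      (∀ i, FTZ (DX.obj i) ∧ FTZ (DS.obj i)) ∧ ∀ i, πX.app i ≫ φ.app i = f ≫ πS.app i := by
  obtain ⟨A⟩ := exists_appr X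
  obtain ⟨B⟩ := exists_appr S
  let A' := A.reindex (MorIdx f A B) MorIdx.fstHom MorIdx.cof_fst
  let B' := B.reindex (MorIdx f A B) MorIdx.sndHom MorIdx.cof_snd
  exact ⟨MorIdx f A B, inferInstance, inferInstance, inferInstance, A'.D, B'.D,
    { app := fun i => i.unop.hom
      naturality := fun i j g => by
        obtain ⟨ha, hb, e⟩ := leOfHom g.unop
        exact e },
    A'.π, B'.π, A'.lim, B'.lim, fun i j a => ⟨A'.aff i j a, B'.aff i j a⟩,
    fun i => ⟨A'.ftz i, B'.ftz i⟩, fun i => i.unop.w⟩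

/-- The base change of a stage. -/
noncomputable abbrev bcObj (i : MorIdx f A B) : Scheme.{u} := pullback i.hom (B.pr i.snd)

theorem exists_relative_limit [CompactSpace S] [QuasiSeparatedSpace S] [CompactSpace X] [QuasiSeparatedSpace X]
    (f : X ⟶ S) : ∃ (J : Type u) (_ : Preorder J) (_ : IsDirected J (fun a b => a ≤ b)) (_ : Nonempty J)
      (D : Jᵒᵖ ⥤ Over S) (π : (Functor.const Jᵒᵖ).obj (Over.mk f) ⟶ D) (_ : IsLimit (Cone.mk (Over.mk f) π)),
      (∀ i, LocallyOfFinitePresentation (D.obj i).hom ∧ QuasiCompact (D.obj i).hom ∧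
        QuasiSeparated (D.obj i).hom) ∧
      (∀ (i j : Jᵒᵖ) (a : i ⟶ j), IsAffineHom (D.map a).left) ∧
      ∀ i, IsAffineHom (π.app i).left := by
  obtain ⟨A⟩ := exists_appr X
  obtain ⟨B⟩ := exists_appr S
  let I := MorIdx f A B
  have hq : ∀ i : I, LocallyOfFinitePresentation i.hom ∧ QuasiCompact i.hom ∧ QuasiSeparated i.hom := fun i => by
    haveI := lft_of_ftz (A.ftz (op i.fst)) i.hom
    haveI := (A.ftz (op i.fst)).1
    haveI := (A.ftz (op i.fst)).qs
    haveI := (B.ftz (op i.snd)).qs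
    haveI := (B.ftz (op i.snd)).isLocallyNoetherian
    exact ⟨LocallyOfFinitePresentation.iff_locallyOfFiniteType.mpr inferInstance, inferInstance, inferInstance⟩
  let m : ∀ {i j : I}, i ≤ j → (bcObj j ⟶ bcObj i) := fun {i j} h =>
    pullback.lift (pullback.fst _ _ ≫ A.tr h.1) (pullback.snd _ _) (by
      rw [Category.assoc, h.2.2, pullback.condition_assoc, B.pr_tr])
  have m1 : ∀ {i j : I} (h : i ≤ j), m h ≫ pullback.fst _ _ = pullback.fst _ _ ≫ A.tr h.1 :=
    fun h => pullback.lift_fst _ _ _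
  have m2 : ∀ {i j : I} (h : i ≤ j), m h ≫ pullback.snd _ _ = pullback.snd _ _ := fun h => pullback.lift_snd _ _ _
  haveI haffb : ∀ b, IsAffineHom (B.pr b) := fun b => B.isAffineHom_pr b
  haveI haffp : ∀ i : I, IsAffineHom (pullback.fst i.hom (B.pr i.snd)) := fun i =>
    MorphismProperty.pullback_fst _ _ (haffb _)
  let D : Iᵒᵖ ⥤ Over S :=
    { obj := fun i => Over.mk (pullback.snd i.unop.hom (B.pr i.unop.snd))
      map := fun {i j} g => Over.homMk (m (leOfHom g.unop)) (m2 (leOfHom g.unop))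
      map_id := fun i => Over.OverMorphism.ext (pullback.hom_ext (by simp [m1, A.tr_self]) (by simp [m2]))
      map_comp := fun {i j k} g h => Over.OverMorphism.ext (pullback.hom_ext
        (by simp [m1, reassoc_of% (m1 (leOfHom g.unop))]) (by simp [m2])) }
  let p : ∀ i : I, X ⟶ bcObj i := fun i => pullback.lift (A.pr i.fst) f i.w
  let π : (Functor.const Iᵒᵖ).obj (Over.mk f) ⟶ D :=
    { app := fun i => Over.homMk (p i.unop) (pullback.lift_snd _ _ _)
      naturality := fun i j g => Over.OverMorphism.ext (pullback.hom_ext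
        (by simp [D, p, m1 (leOfHom g.unop)]) (by simp [D, p, m2 (leOfHom g.unop)])) }
  have hlift : ∀ s : Cone D, ∃ g : s.pt ⟶ Over.mk f, ∀ i, g ≫ π.app i = s.π.app i := fun s => by
    obtain ⟨g, hg⟩ := A.exists_lift_above MorIdx.fstHom (MorIdx.cof_fst (f := f) (B := B))
      (fun i : MorIdx f A B => ((s.π.app (op i)).left ≫ pullback.fst i.hom (B.pr i.snd) :
        s.pt.left ⟶ A.D.obj (op (MorIdx.fstHom i)))) fun i j h => by
        show ((s.π.app (op j)).left ≫ pullback.fst j.hom (B.pr j.snd)) ≫ A.tr h.1 =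
          (s.π.app (op i)).left ≫ pullback.fst i.hom (B.pr i.snd)
        have e := congrArg Over.Hom.left (s.w (homOfLE h).op)
        simp only [Over.comp_left] at e
        rw [Category.assoc, ← e, Category.assoc]
        exact congrArg (_ ≫ ·) (m1 h).symm
    have hgf : g ≫ f = s.pt.hom := B.hom_ext_above MorIdx.sndHom (MorIdx.cof_snd (f := f) (A := A)) fun i => by
      show (g ≫ f) ≫ B.pr i.snd = _
      rw [Category.assoc, ← i.w, ← Category.assoc, show g ≫ A.pr i.fst = _ from hg i, Category.assoc,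
        pullback.condition, ← Category.assoc]
      exact congrArg (· ≫ B.pr i.snd) (Over.w (s.π.app (op i)))
    refine ⟨Over.homMk g hgf, fun i => Over.OverMorphism.ext (pullback.hom_ext ?_ ?_)⟩
    · show (g ≫ p i.unop) ≫ _ = _
      rw [Category.assoc, pullback.lift_fst]
      exact hg i.unop
    · show (g ≫ p i.unop) ≫ _ = _
      rw [Category.assoc, pullback.lift_snd, hgf]
      exact (Over.w (s.π.app i)).symm
  choose lift hliftfac using hlift
  refine ⟨I, inferInstance, inferInstance, inferInstance, D, π,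
    { lift := lift
      fac := hliftfac
      uniq := fun s g hg => Over.OverMorphism.ext (A.hom_ext_above _ (MorIdx.cof_fst (f := f) (B := B)) fun i => by
        have := congrArg Over.Hom.left ((hg (op i)).trans (hliftfac s (op i)).symm)
        have := congrArg (· ≫ pullback.fst _ _) this
        show g.left ≫ A.pr i.fst = (lift s).left ≫ A.pr i.fst
        simpa [π, p] using this) }, fun i => ?_, fun i j a => ?_, fun i => ?_⟩
  · obtain ⟨h1, h2, h3⟩ := hq i.unop
    exact ⟨inferInstanceAs (LocallyOfFinitePresentation (pullback.snd _ _)),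
      inferInstanceAs (QuasiCompact (pullback.snd _ _)), inferInstanceAs (QuasiSeparated (pullback.snd _ _))⟩
  · show IsAffineHom (m (leOfHom a.unop))
    haveI : IsAffineHom (m (leOfHom a.unop) ≫ pullback.fst _ _) := by
      rw [m1 (leOfHom a.unop)]
      infer_instance
    exact IsAffineHom.of_comp _ (pullback.fst _ _)
  · show IsAffineHom (p i.unop)
    haveI : IsAffineHom (p i.unop ≫ pullback.fst _ _) := by rw [pullback.lift_fst]; exact A.isAffineHom_pr _
    exact IsAffineHom.of_comp _ (pullback.fst _ _)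

/-- The same for a quasi-separated base. -/
theorem exists_relative_limit_qs [QuasiSeparatedSpace S] [CompactSpace X] [QuasiSeparatedSpace X]
    (f : X ⟶ S) : ∃ (J : Type u) (_ : Preorder J) (_ : IsDirected J (fun a b => a ≤ b)) (_ : Nonempty J)
      (D : Jᵒᵖ ⥤ Over S) (π : (Functor.const Jᵒᵖ).obj (Over.mk f) ⟶ D) (_ : IsLimit (Cone.mk (Over.mk f) π)),
      (∀ i, LocallyOfFinitePresentation (D.obj i).hom ∧ QuasiCompact (D.obj i).hom ∧
        QuasiSeparated (D.obj i).hom) ∧
      (∀ (i j : Jᵒᵖ) (a : i ⟶ j), IsAffineHom (D.map a).left) ∧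
      ∀ i, IsAffineHom (π.app i).left := by
  obtain ⟨U, hUc, hUf⟩ : ∃ U : S.Opens, IsCompact (U : Set S) ∧ Set.range f ⊆ (U : Set S) := by
    obtain ⟨t, ht⟩ := (isCompact_range f.continuous).elim_finite_subcover
      (fun U : S.affineOpens => (U.1 : Set S)) (fun U => U.1.2) fun x _ => by
        obtain ⟨U, hU, hxU, -⟩ := exists_isAffineOpen_mem_and_subset (x := x) (U := (⊤ : S.Opens)) trivial
        exact Set.mem_iUnion.2 ⟨⟨U, hU⟩, hxU⟩
    exact ⟨⟨⋃ U ∈ t, (U.1 : Set S), isOpen_biUnion fun U _ => U.1.2⟩,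
      t.isCompact_biUnion fun U _ => U.2.isCompact, ht⟩
  haveI : CompactSpace (U : Scheme.{u}) := isCompact_iff_compactSpace.mp hUc
  haveI : QuasiSeparatedSpace (U : Scheme.{u}) := quasiSeparatedSpace_of_quasiSeparated U.ι
  haveI : QuasiCompact U.ι := inferInstance
  have hr : Set.range f ⊆ Set.range U.ι := by rw [Scheme.Opens.range_ι]; exact hUf
  let f' : X ⟶ (U : Scheme.{u}) := IsOpenImmersion.lift U.ι f hr
  have hf' : f' ≫ U.ι = f := IsOpenImmersion.lift_fac _ _ _
  obtain ⟨J, _, _, _, D, π, hlim, hD, haff, hπ⟩ := exists_relative_limit f'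
  let D' : Jᵒᵖ ⥤ Over S := D ⋙ Over.map U.ι
  let π' : (Functor.const Jᵒᵖ).obj (Over.mk f) ⟶ D' :=
    { app := fun i => Over.homMk (π.app i).left (by
        show (π.app i).left ≫ (D.obj i).hom ≫ U.ι = f
        rw [← Category.assoc, Over.w (π.app i)]
        exact hf')
      naturality := fun i j g => Over.OverMorphism.ext (by
        have e := congrArg Over.Hom.left (π.naturality g)
        simp only [Functor.const_obj_map, Over.comp_left, Over.id_left, Category.id_comp] at e ⊢
        exact e) }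
  have hlift : ∀ s : Cone D', ∃ g : s.pt ⟶ Over.mk f, ∀ i, g ≫ π'.app i = s.π.app i := fun s => by
    have i₀ := Classical.arbitrary J
    have hs : Set.range s.pt.hom ⊆ Set.range U.ι := by
      have e : (s.π.app (op i₀)).left ≫ (D.obj (op i₀)).hom ≫ U.ι = s.pt.hom := Over.w (s.π.app (op i₀))
      rw [← e]
      rintro _ ⟨x, rfl⟩
      exact ⟨(D.obj (op i₀)).hom ((s.π.app (op i₀)).left x), rfl⟩
    let s' : Cone D :=
      { pt := Over.mk (IsOpenImmersion.lift U.ι s.pt.hom hs)
        π :=
          { app := fun i => Over.homMk (s.π.app i).left (by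
              show (s.π.app i).left ≫ (D.obj i).hom = IsOpenImmersion.lift U.ι s.pt.hom hs
              rw [← cancel_mono U.ι, IsOpenImmersion.lift_fac, Category.assoc]
              exact Over.w (s.π.app i))
            naturality := fun i j g => Over.OverMorphism.ext (by
              show 𝟙 s.pt.left ≫ _ = _
              rw [Category.id_comp]
              exact (congrArg Over.Hom.left (s.w g)).symm) } }
    refine ⟨Over.homMk (hlim.lift s').left (by
      show (hlim.lift s').left ≫ f = s.pt.hom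
      rw [← hf', ← Category.assoc, show (hlim.lift s').left ≫ f' = _ from Over.w (hlim.lift s')]
      exact IsOpenImmersion.lift_fac _ _ _), fun i => Over.OverMorphism.ext ?_⟩
    have e := congrArg Over.Hom.left (hlim.fac s' i)
    exact e
  choose lift hliftfac using hlift
  refine ⟨J, inferInstance, inferInstance, inferInstance, D', π',
    { lift := lift
      fac := hliftfac
      uniq := fun s g hg => ?_ }, fun i => ?_, fun i j a => haff i j a, fun i => hπ i⟩
  · let g₁ : Over.mk (g.left ≫ f') ⟶ Over.mk f' := Over.homMk g.left rfl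
    let g₂ : Over.mk (g.left ≫ f') ⟶ Over.mk f' := Over.homMk (lift s).left (by
      show (lift s).left ≫ f' = g.left ≫ f'
      rw [← cancel_mono U.ι, Category.assoc, Category.assoc, hf']
      exact (Over.w (lift s)).trans (Over.w g).symm)
    have : g₁ = g₂ := hlim.hom_ext fun i => Over.OverMorphism.ext (by
      have e := congrArg Over.Hom.left ((hg i).trans (hliftfac s i).symm)
      exact e)
    exact Over.OverMorphism.ext (congrArg Over.Hom.left this :)
  · obtain ⟨h1, h2, h3⟩ := hD i
    exact ⟨inferInstanceAs (LocallyOfFinitePresentation ((D.obj i).hom ≫ U.ι)),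
      inferInstanceAs (QuasiCompact ((D.obj i).hom ≫ U.ι)), inferInstanceAs (QuasiSeparated ((D.obj i).hom ≫ U.ι))⟩

end Groth.Agent.LimitsH94.Approx
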