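import Groth.Agent.LimitsH94.Approx.Arrow
import Groth.Agent.LimitsH94.LimAffine
import Groth.Agent.MorLib.EventuallySep

/-! Properties of the relative approximations which hold eventually. -/

set_option autoImplicit false
set_option backward.isDefEq.respectTransparency false
set_option backward.isDefEq.respectTransparency.types false
set_option linter.style.haveILetI false
universe u

open CategoryTheory Limits AlgebraicGeometry Opposite TopologicalSpace
open Groth.Agent.LimitsH94.LM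

namespace Groth.Agent.LimitsH94.Approx

variable {I : Type u} [SmallCategory I] [IsCofiltered I] {D : I ⥤ Scheme.{u}} {c : Cone D} {S : Scheme.{u}}

theorem surjective_restrict_appTop {X Y : Scheme.{u}} (f : X ⟶ Y) (U : Y.Opens)
    (h : Function.Surjective (f.app U)) : Function.Surjective (f ∣_ U).appTop := by
  rw [morphismRestrict_appTop]
  have key : ∀ O : Y.Opens, O = U → Function.Surjective (f.app O) := by rintro O rfl; exact h
  exact (ConcreteCategory.bijective_of_isIso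
    (X.presheaf.map (eqToHom (image_morphismRestrict_preimage f U ⊤)).op)).2.comp (key _ U.ι_image_top)

theorem exists_stage_isClosedImmersion (hc : IsLimit c) [∀ (i j : I) (f : i ⟶ j), IsAffineHom (D.map f)]
    [∀ i, CompactSpace (D.obj i)] (t : ∀ i, D.obj i ⟶ S) (ht : ∀ {i j : I} (f : i ⟶ j), D.map f ≫ t j = t i)
    (τ : c.pt ⟶ S) (hτ : ∀ i, c.π.app i ≫ t i = τ) [LocallyOfFiniteType τ] :
    ∃ i₀, ∀ i, (i ⟶ i₀) → IsClosedImmersion (c.π.app i) := by
  classical
  obtain ⟨i₀⟩ := IsCofiltered.nonempty (C := I)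
  have key : ∀ x : D.obj i₀, ∃ (W : S.Opens) (V : (D.obj i₀).Opens),
      IsAffineOpen W ∧ IsAffineOpen V ∧ x ∈ V ∧ V ≤ t i₀ ⁻¹ᵁ W := by
    intro x
    obtain ⟨W, hW, hxW, -⟩ := exists_isAffineOpen_mem_and_subset (x := t i₀ x) (U := (⊤ : S.Opens)) trivial
    obtain ⟨V, hV, hxV, hVW⟩ := exists_isAffineOpen_mem_and_subset (x := x) (U := t i₀ ⁻¹ᵁ W) hxW
    exact ⟨W, V, hW, hV, hxV, hVW⟩
  choose W V hW hV hxV hVW using key
  obtain ⟨T, hT⟩ := CompactSpace.elim_nhds_subcover (fun x => (V x : Set (D.obj i₀)))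
    fun x => (V x).isOpen.mem_nhds (hxV x)
  haveI : ∀ {i j : I} (f : i ⟶ j), IsAffineHom (D.map f) := fun {i j} f => inferInstance
  have haff : ∀ i, IsAffineHom (c.π.app i) := fun i => isAffineHom_π_app D c hc i
  have hle : ∀ x, c.π.app i₀ ⁻¹ᵁ V x ≤ τ ⁻¹ᵁ W x := fun x => by
    rw [← hτ i₀, Scheme.Hom.comp_preimage]
    exact Scheme.Hom.preimage_mono _ (hVW x)
  have gens : ∀ x, ∃ s : Finset (SecLim c (V x)),
      Subring.closure (Set.range (τ.appLE (W x) _ (hle x)) ∪ (s : Set (SecLim c (V x)))) = ⊤ := fun x => by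
    haveI := haff i₀
    have hft := τ.finiteType_appLE (hW x) ((hV x).preimage (c.π.app i₀)) (hle x)
    letI := (τ.appLE (W x) _ (hle x)).hom.toAlgebra
    obtain ⟨s, hs⟩ : (⊤ : Subalgebra Γ(S, W x) (SecLim c (V x))).FG := hft.out
    refine ⟨s, top_le_iff.1 fun y _ => ?_⟩
    have hy : y ∈ Algebra.adjoin Γ(S, W x) (s : Set (SecLim c (V x))) := by rw [hs]; trivial
    refine Algebra.adjoin_induction (fun z hz => Subring.subset_closure (Or.inr hz))
      (fun r => Subring.subset_closure (Or.inl ⟨r, rfl⟩))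
      (fun _ _ _ _ => Subring.add_mem _) (fun _ _ _ _ => Subring.mul_mem _) hy
  choose s hs using gens
  have stage : ∀ x, ∀ a : SecLim c (V x), ∃ (j : Over i₀) (y : Sec (V x) j), g c (V x) j y = a :=
    fun x => (isColim hc (hV x)).surj
  choose st y hy using stage
  obtain ⟨l, hl⟩ := exists_le_all (T.sigma s) fun p => st p.1 p.2
  refine ⟨l.left, fun i f => ?_⟩
  let l' : Over i₀ := Over.mk (f ≫ l.hom)
  let fl : l' ⟶ l := Over.homMk f rfl
  haveI := haff i
  have hsurj : ∀ x ∈ T, Function.Surjective (g c (V x) l') := by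
    intro x hx a
    have ha : a ∈ Subring.closure (Set.range (τ.appLE (W x) _ (hle x)) ∪ (s x : Set (SecLim c (V x)))) := by
      rw [hs]; trivial
    have : Subring.closure (Set.range (τ.appLE (W x) _ (hle x)) ∪ (s x : Set (SecLim c (V x)))) ≤
        (g c (V x) l').toRingHom.range := by
      refine Subring.closure_le.2 ?_
      rintro b (⟨r, rfl⟩ | hb)
      · refine ⟨algebraMap Γ(D.obj i₀, V x) (Sec (V x) l') ((t i₀).appLE (W x) (V x) (hVW x) r),
          ((g c (V x) l').commutes _).trans ?_⟩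
        show (c.π.app i₀).app (V x) ((t i₀).appLE (W x) (V x) (hVW x) r) = τ.appLE (W x) _ (hle x) r
        rw [← ConcreteCategory.comp_apply, ← Scheme.Hom.appLE_eq_app, Scheme.Hom.appLE_comp_appLE]
        simp only [hτ]
        rfl
      · obtain ⟨p⟩ := hl ⟨x, b⟩ (Finset.mem_sigma.2 ⟨hx, hb⟩)
        let T₂ := tr c (V x) (fl ≫ p)
        exact ⟨T₂.1 (y x b), ((AlgHom.congr_fun T₂.2 (y x b))).trans (hy x b)⟩
    exact this ha
  let Wi : T → (D.obj i).affineOpens := fun x => ⟨D.map (f ≫ l.hom) ⁻¹ᵁ V x, (hV x).preimage _⟩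
  refine (HasAffineProperty.iff_of_iSup_eq_top (P := @IsClosedImmersion) Wi ?_).2 fun x => ⟨?_, ?_⟩
  · refine top_le_iff.1 fun z _ => ?_
    obtain ⟨x, hx, hz⟩ := Set.mem_iUnion₂.1 (hT.ge (Set.mem_univ (D.map (f ≫ l.hom) z)))
    exact Opens.mem_iSup.2 ⟨⟨x, hx⟩, hz⟩
  · exact (Wi x).2.preimage (c.π.app i)
  · refine surjective_restrict_appTop _ _ fun a => ?_
    have e : c.π.app i₀ ⁻¹ᵁ V x.1 = c.π.app i ⁻¹ᵁ (Wi x).1 := by
      show _ = c.π.app i ⁻¹ᵁ (D.map (f ≫ l.hom) ⁻¹ᵁ V x.1)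
      rw [← Scheme.Hom.comp_preimage, c.w]
    obtain ⟨b, hb⟩ := hsurj x.1 x.2 (c.pt.presheaf.map (eqToHom e).op a)
    exact ⟨b, (ConcreteCategory.bijective_of_isIso (c.pt.presheaf.map (eqToHom e).op)).1 hb⟩

theorem exists_stage_isSeparated (hc : IsLimit c) [∀ (i j : I) (f : i ⟶ j), IsAffineHom (D.map f)]
    [∀ i, CompactSpace (D.obj i)] [∀ i, QuasiSeparatedSpace (D.obj i)] [QuasiSeparatedSpace S]
    (t : ∀ i, D.obj i ⟶ S) (ht : ∀ {i j : I} (f : i ⟶ j), D.map f ≫ t j = t i)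
    (τ : c.pt ⟶ S) (hτ : ∀ i, c.π.app i ≫ t i = τ) [IsSeparated τ] :
    ∃ i₀, ∀ i, (i ⟶ i₀) → IsSeparated (t i) := by
  haveI : ∀ {i j : I} (f : i ⟶ j), IsAffineHom (D.map f) := fun {i j} f => inferInstance
  obtain ⟨i₁, h⟩ := MorLib.EvSep.eventually_isSeparated t ht τ hτ hc
  exact ⟨i₁, h⟩

section Relative

variable {X S : Scheme.{u}} (f : X ⟶ S) [QuasiSeparatedSpace S] [CompactSpace X] [QuasiSeparatedSpace X]

/-- A factorisation through a scheme of finite presentation. -/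
theorem exists_factor :
    ∃ (Z : Scheme.{u}) (g : X ⟶ Z) (h : Z ⟶ S), IsAffineHom g ∧ LocallyOfFinitePresentation h ∧
      QuasiCompact h ∧ QuasiSeparated h ∧ (IsSeparated f → IsSeparated h) ∧
      (LocallyOfFiniteType f → IsClosedImmersion g) ∧ g ≫ h = f := by
  classical
  obtain ⟨U, hUc, hUf⟩ : ∃ U : S.Opens, IsCompact (U : Set S) ∧ Set.range f ⊆ (U : Set S) := by
    obtain ⟨t, ht⟩ := (isCompact_range f.continuous).elim_finite_subcover
      (fun U : S.affineOpens => (U.1 : Set S)) (fun U => U.1.2) fun x _ => by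
        obtain ⟨U, hU, hxU, -⟩ := exists_isAffineOpen_mem_and_subset (x := x) (U := (⊤ : S.Opens)) trivial
        exact Set.mem_iUnion.2 ⟨⟨U, hU⟩, hxU⟩
    exact ⟨⟨⋃ U ∈ t, (U.1 : Set S), isOpen_biUnion fun U _ => U.1.2⟩,
      t.isCompact_biUnion fun U _ => U.2.isCompact, ht⟩
  haveI : CompactSpace (U : Scheme.{u}) := isCompact_iff_compactSpace.mp hUc
  haveI : QuasiSeparatedSpace (U : Scheme.{u}) := quasiSeparatedSpace_of_quasiSeparated U.ι
  have hr : Set.range f ⊆ Set.range U.ι := by rw [Scheme.Opens.range_ι]; exact hUf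
  let f' : X ⟶ (U : Scheme.{u}) := IsOpenImmersion.lift U.ι f hr
  have hf' : f' ≫ U.ι = f := IsOpenImmersion.lift_fac _ _ _
  obtain ⟨A⟩ := exists_appr X
  obtain ⟨J, _, _, _, D, π, hlim, hD, haff, hπ⟩ := exists_relative_limit f'
  let D₀ : Jᵒᵖ ⥤ Scheme.{u} := D ⋙ Over.forget _
  let c₀ : Cone D₀ := (Over.forget _).mapCone (Cone.mk _ π)
  haveI : IsCofiltered Jᵒᵖ := inferInstance
  haveI : IsConnected Jᵒᵖ := IsCofiltered.isConnected _
  have hc₀ : IsLimit c₀ := isLimitOfPreserves (Over.forget _) hlim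
  haveI : ∀ (i j : Jᵒᵖ) (a : i ⟶ j), IsAffineHom (D₀.map a) := haff
  haveI hcs : ∀ i, CompactSpace (D₀.obj i) := fun i => by
    haveI := (hD i).2.1
    exact QuasiCompact.compactSpace_of_compactSpace (D.obj i).hom
  haveI hqs : ∀ i, QuasiSeparatedSpace (D₀.obj i) := fun i => by
    haveI := (hD i).2.2
    exact quasiSeparatedSpace_of_quasiSeparated (D.obj i).hom
  have ht : ∀ {i j : Jᵒᵖ} (a : i ⟶ j), D₀.map a ≫ (D.obj j).hom = (D.obj i).hom := fun a => Over.w (D.map a)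
  have hτ : ∀ i, c₀.π.app i ≫ (D.obj i).hom = f' := fun i => Over.w (π.app i)
  have h1 : ∃ i₁, IsSeparated f → ∀ i, (i ⟶ i₁) → IsSeparated (D.obj i).hom := by
    by_cases hs : IsSeparated f
    · haveI : IsSeparated (f' ≫ U.ι) := by rw [hf']; exact hs
      haveI : IsSeparated f' := IsSeparated.of_comp f' U.ι
      obtain ⟨i₁, h⟩ := exists_stage_isSeparated hc₀ (fun i => (D.obj i).hom) ht f' hτ
      exact ⟨i₁, fun _ => h⟩
    · exact ⟨op (Classical.arbitrary J), fun h => absurd h hs⟩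
  have h2 : ∃ i₂, LocallyOfFiniteType f → ∀ i, (i ⟶ i₂) → IsClosedImmersion (c₀.π.app i) := by
    by_cases hs : LocallyOfFiniteType f
    · haveI : LocallyOfFiniteType (f' ≫ U.ι) := by rw [hf']; exact hs
      haveI : LocallyOfFiniteType f' := locallyOfFiniteType_of_comp f' U.ι
      obtain ⟨i₂, h⟩ := exists_stage_isClosedImmersion hc₀ (fun i => (D.obj i).hom) ht f' hτ
      exact ⟨i₂, fun _ => h⟩
    · exact ⟨op (Classical.arbitrary J), fun h => absurd h hs⟩
  obtain ⟨i₁, h1⟩ := h1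
  obtain ⟨i₂, h2⟩ := h2
  let i := IsCofiltered.min i₁ i₂
  haveI : QuasiCompact U.ι := inferInstance
  obtain ⟨p, q, r⟩ := hD i
  refine ⟨(D.obj i).left, (π.app i).left, (D.obj i).hom ≫ U.ι, hπ i, inferInstance, inferInstance, inferInstance,
    fun hs => ?_, fun hs => h2 hs i (IsCofiltered.minToRight i₁ i₂), ?_⟩
  · haveI := h1 hs i (IsCofiltered.minToLeft i₁ i₂)
    infer_instance
  · rw [← Category.assoc]
    exact (congrArg (· ≫ U.ι) (Over.w (π.app i))).trans hf'

end Relative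

end Groth.Agent.LimitsH94.Approx
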