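import Mathlib.AlgebraicGeometry.AffineTransitionLimit
import Mathlib.AlgebraicGeometry.Morphisms.FiniteType
import Mathlib.AlgebraicGeometry.Noetherian
import Mathlib.CategoryTheory.Limits.Connected

/-! Presentations of schemes as limits of schemes of finite type over the integers. -/

set_option autoImplicit false
set_option backward.isDefEq.respectTransparency false
set_option backward.isDefEq.respectTransparency.types false
set_option linter.style.haveILetI false
universe u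

open CategoryTheory Limits AlgebraicGeometry Opposite TopologicalSpace

namespace Groth.Agent.LimitsH94.Approx

/-- Finite type over the integers. -/
def FTZ (X : Scheme.{u}) : Prop :=
  CompactSpace X ∧ LocallyOfFiniteType (Limits.IsTerminal.from specULiftZIsTerminal X)

theorem FTZ.isLocallyNoetherian {X : Scheme.{u}} (h : FTZ X) : IsLocallyNoetherian X := by
  haveI := h.2
  haveI : IsNoetherianRing (CommRingCat.of (ULift.{u} ℤ)) :=
    isNoetherianRing_of_ringEquiv ℤ (ULift.ringEquiv : ULift.{u} ℤ ≃+* ℤ).symm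
  exact LocallyOfFiniteType.isLocallyNoetherian (Limits.IsTerminal.from specULiftZIsTerminal X)

theorem FTZ.qs {X : Scheme.{u}} (h : FTZ X) : QuasiSeparatedSpace X := by
  haveI := h.isLocallyNoetherian
  infer_instance

theorem FTZ.of_lft {X Y : Scheme.{u}} (h : FTZ Y) (f : X ⟶ Y) [LocallyOfFiniteType f] [CompactSpace X] :
    FTZ X := by
  haveI := h.2
  refine ⟨inferInstance, ?_⟩
  rw [specULiftZIsTerminal.hom_ext (Limits.IsTerminal.from specULiftZIsTerminal X)
    (f ≫ Limits.IsTerminal.from specULiftZIsTerminal Y)]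
  infer_instance

theorem FTZ.of_open {X Y : Scheme.{u}} (h : FTZ Y) (f : X ⟶ Y) [IsOpenImmersion f] [CompactSpace X] : FTZ X :=
  h.of_lft f

/-- A presentation as a limit. -/
structure Appr (S : Scheme.{u}) : Type (u + 1) where
  I : Type u
  [pre : Preorder I]
  [dir : IsDirected I (fun a b => a ≤ b)]
  [ne : Nonempty I]
  D : Iᵒᵖ ⥤ Scheme.{u}
  aff : ∀ (i j : Iᵒᵖ) (a : i ⟶ j), IsAffineHom (D.map a)
  ftz : ∀ i, FTZ (D.obj i)
  π : (Functor.const Iᵒᵖ).obj S ⟶ D
  lim : IsLimit (Cone.mk S π)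

attribute [instance] Appr.pre Appr.dir Appr.ne

variable {V S T : Scheme.{u}}

instance (A : Appr S) {i j : A.Iᵒᵖ} (a : i ⟶ j) : IsAffineHom (A.D.map a) := A.aff i j a

instance (A : Appr S) (i : A.Iᵒᵖ) : CompactSpace (A.D.obj i) := (A.ftz i).1

instance (A : Appr S) (i : A.Iᵒᵖ) : QuasiSeparatedSpace (A.D.obj i) := (A.ftz i).qs

/-- The transition morphism. -/
noncomputable abbrev Appr.tr (A : Appr S) {a b : A.I} (h : a ≤ b) : A.D.obj (op b) ⟶ A.D.obj (op a) :=
  A.D.map (homOfLE h).op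

/-- The projection. -/
noncomputable abbrev Appr.pr (A : Appr S) (a : A.I) : S ⟶ A.D.obj (op a) := A.π.app (op a)

@[reassoc (attr := simp)]
theorem Appr.pr_tr (A : Appr S) {a b : A.I} (h : a ≤ b) : A.pr b ≫ A.tr h = A.pr a := by
  have := A.π.naturality (homOfLE h).op
  simp only [Functor.const_obj_obj, Functor.const_obj_map, Category.id_comp] at this
  exact this.symm

@[reassoc (attr := simp)]
theorem Appr.tr_tr (A : Appr S) {a b c : A.I} (h : a ≤ b) (h' : b ≤ c) : A.tr h' ≫ A.tr h = A.tr (h.trans h') := by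
  rw [← Functor.map_comp]
  rfl

theorem Appr.tr_self (A : Appr S) {a : A.I} (h : a ≤ a) : A.tr h = 𝟙 _ := A.D.map_id _

theorem Appr.map_eq (A : Appr S) {i j : A.Iᵒᵖ} (f : i ⟶ j) : A.D.map f = A.tr (leOfHom f.unop) :=
  congrArg A.D.map (Subsingleton.elim _ _)

theorem Appr.isAffineHom_pr (A : Appr S) (a : A.I) : IsAffineHom (A.pr a) :=
  isAffineHom_π_app A.D (Cone.mk S A.π) A.lim (op a)

theorem Appr.hom_ext (A : Appr S) {f g : T ⟶ S} (h : ∀ a, f ≫ A.pr a = g ≫ A.pr a) : f = g :=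
  A.lim.hom_ext fun i => h i.unop

theorem Appr.exists_lift (A : Appr S) (t : ∀ a, T ⟶ A.D.obj (op a))
    (ht : ∀ (a b : A.I) (h : a ≤ b), t b ≫ A.tr h = t a) : ∃ g : T ⟶ S, ∀ a, g ≫ A.pr a = t a := by
  let c : Cone A.D :=
    { pt := T
      π :=
        { app := fun i => t i.unop
          naturality := fun i j f => by
            refine (Category.id_comp _).trans ?_
            rw [A.map_eq f]
            exact (ht _ _ _).symm } }
  exact ⟨A.lim.lift c, fun a => A.lim.fac c (op a)⟩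

/-- It suffices to know the components beyond a given index. -/
theorem Appr.exists_lift_above (A : Appr S) {J : Type u} [Preorder J] [IsDirected J (fun a b => a ≤ b)]
    (f : J →o A.I) (hf : ∀ a, ∃ j, a ≤ f j) (t : ∀ j, T ⟶ A.D.obj (op (f j)))
    (ht : ∀ (a b : J) (h : a ≤ b), t b ≫ A.tr (f.mono h) = t a) :
    ∃ g : T ⟶ S, ∀ j, g ≫ A.pr (f j) = t j := by
  choose j hj using hf
  obtain ⟨g, hg⟩ := A.exists_lift (fun a => t (j a) ≫ A.tr (hj a)) fun a b h => by
    obtain ⟨k, ha, hb⟩ := exists_ge_ge (j a) (j b)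
    rw [← ht _ _ hb, ← ht _ _ ha]
    simp
  refine ⟨g, fun k => ?_⟩
  rw [hg]
  obtain ⟨l, h1, h2⟩ := exists_ge_ge (j (f k)) k
  rw [← ht _ _ h1, ← ht _ _ h2]
  simp

theorem Appr.hom_ext_above (A : Appr S) {J : Type u} (f : J → A.I) (hf : ∀ a, ∃ j, a ≤ f j) {g h : T ⟶ S}
    (e : ∀ j, g ≫ A.pr (f j) = h ≫ A.pr (f j)) : g = h :=
  A.hom_ext fun a => by
    obtain ⟨j, hj⟩ := hf a
    rw [← A.pr_tr hj, ← Category.assoc, ← Category.assoc, e j]

/-- A presentation of an open compatible with one of the whole scheme. -/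
structure Rel (j : V ⟶ S) (A : Appr V) (B : Appr S) : Type u where
  α : B.I →o A.I
  cof : ∀ a, ∃ b, a ≤ α b
  ι : ∀ b : B.I, A.D.obj (op (α b)) ⟶ B.D.obj (op b)
  isOpen : ∀ b, IsOpenImmersion (ι b)
  sq : ∀ (a b : B.I) (h : a ≤ b), IsPullback (A.tr (α.mono h)) (ι b) (ι a) (B.tr h)
  sqπ : ∀ b, IsPullback (A.pr (α b)) j (ι b) (B.pr b)

attribute [instance] Rel.isOpen

theorem Rel.w {j : V ⟶ S} {A : Appr V} {B : Appr S} (r : Rel j A B) {a b : B.I} (h : a ≤ b) :
    A.tr (r.α.mono h) ≫ r.ι a = r.ι b ≫ B.tr h := (r.sq a b h).w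

theorem Rel.wπ {j : V ⟶ S} {A : Appr V} {B : Appr S} (r : Rel j A B) (b : B.I) :
    A.pr (r.α b) ≫ r.ι b = j ≫ B.pr b := (r.sqπ b).w

/-- Composition. -/
def Rel.comp {U : Scheme.{u}} {i : U ⟶ V} {j : V ⟶ S} {A : Appr U} {B : Appr V} {C : Appr S}
    (r : Rel i A B) (s : Rel j B C) : Rel (i ≫ j) A C where
  α := r.α.comp s.α
  cof a := by
    obtain ⟨b, hb⟩ := r.cof a
    obtain ⟨c, hc⟩ := s.cof b
    exact ⟨c, hb.trans (r.α.mono hc)⟩
  ι c := r.ι (s.α c) ≫ s.ι c
  isOpen c := inferInstance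
  sq a b h := (r.sq _ _ (s.α.mono h)).paste_vert (s.sq a b h)
  sqπ c := (r.sqπ _).paste_vert (s.sqπ c)

/-- A commutative square of open immersions is cartesian as soon as the ranges correspond. -/
theorem isPullback_of_preimage {A B C D : Scheme.{u}} {f : A ⟶ B} {i : A ⟶ C} {k : B ⟶ D} {g : C ⟶ D}
    [IsOpenImmersion i] [IsOpenImmersion k] (w : f ≫ k = i ≫ g)
    (h : ∀ x : C, g x ∈ Set.range k → x ∈ Set.range i) : IsPullback f i k g := by
  refine IsOpenImmersion.isPullback f i k g w.symm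
    (TopologicalSpace.Opens.ext (Set.ext fun x => ⟨fun hx => h x hx, fun hx => ?_⟩))
  obtain ⟨y, rfl⟩ := hx
  exact ⟨f y, by rw [← Scheme.Hom.comp_apply, w]; rfl⟩

theorem mem_range_of_isPullback {A B C D : Scheme.{u}} {f : A ⟶ B} {i : A ⟶ C} {k : B ⟶ D} {g : C ⟶ D}
    (sq : IsPullback f i k g) {x : C} (hx : g x ∈ Set.range k) : x ∈ Set.range i := by
  obtain ⟨y, hy⟩ := hx
  obtain ⟨z, -, hz⟩ := Scheme.Pullback.exists_preimage_pullback y x hy
  exact ⟨sq.isoPullback.inv z, by rw [← Scheme.Hom.comp_apply, sq.isoPullback_inv_snd, hz]⟩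

/-- Restriction of a presentation to a quasi-compact open. -/
theorem exists_restrict (A : Appr S) {W : Scheme.{u}} [CompactSpace W] (i : W ⟶ S) [IsOpenImmersion i] :
    ∃ (B : Appr W) (e : B.I →o A.I) (ι : ∀ b, B.D.obj (op b) ⟶ A.D.obj (op (e b))),
      (∀ a, ∃ b, a ≤ e b) ∧ (∀ b, IsOpenImmersion (ι b)) ∧
      (∀ a b (h : a ≤ b), IsPullback (B.tr h) (ι b) (ι a) (A.tr (e.mono h))) ∧
      (∀ b, IsPullback (B.pr b) i (ι b) (A.pr (e b))) := by
  obtain ⟨i₀, U, hUc, hU⟩ := exists_preimage_eq A.D (Cone.mk S A.π) A.lim i.opensRange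
    (isCompact_range i.continuous)
  let J := {a : A.I // i₀.unop ≤ a}
  haveI : Nonempty J := ⟨⟨i₀.unop, le_rfl⟩⟩
  haveI : IsDirected J (fun a b => a ≤ b) := ⟨fun a b => by
    obtain ⟨c, h1, h2⟩ := exists_ge_ge a.1 b.1
    exact ⟨⟨c, a.2.trans h1⟩, h1, h2⟩⟩
  let O : ∀ b : J, (A.D.obj (op b.1)).Opens := fun b => A.tr b.2 ⁻¹ᵁ U
  have hO : ∀ (a b : J) (h : a ≤ b), O b = A.tr (show a.1 ≤ b.1 from h) ⁻¹ᵁ O a := fun a b h => by
    simp only [O, ← Scheme.Hom.comp_preimage, Appr.tr_tr]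
  let D : Jᵒᵖ ⥤ Scheme.{u} :=
    { obj := fun b => O b.unop
      map := fun {a b} f => (A.tr (show b.unop.1 ≤ a.unop.1 from leOfHom f.unop)).resLE _ _ (hO _ _ (leOfHom f.unop)).le
      map_id := fun a => by rw [← cancel_mono (O a.unop).ι, Scheme.Hom.resLE_comp_ι, A.tr_self]; simp
      map_comp := fun {a b c} f g => by
        rw [← cancel_mono (O c.unop).ι, Category.assoc, Scheme.Hom.resLE_comp_ι, Scheme.Hom.resLE_comp_ι,
          Scheme.Hom.resLE_comp_ι_assoc, Appr.tr_tr] }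
  have hsq : ∀ (a b : J) (h : a ≤ b), IsPullback (D.map (homOfLE h).op) (O b).ι (O a).ι
      (A.tr (show a.1 ≤ b.1 from h)) := fun a b h =>
    isPullback_of_preimage (Scheme.Hom.resLE_comp_ι _ _) fun x hx => by
      rw [Scheme.Opens.range_ι] at hx ⊢
      rw [SetLike.mem_coe, hO a b h]
      exact hx
  have hiU : i.opensRange = A.pr i₀.unop ⁻¹ᵁ U := hU.symm
  have hpr : ∀ b : J, Set.range (i ≫ A.pr b.1) ⊆ Set.range (O b).ι := by
    rintro b _ ⟨w, rfl⟩
    rw [Scheme.Opens.range_ι]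
    show (i ≫ A.pr b.1 ≫ A.tr b.2) w ∈ U
    rw [A.pr_tr]
    exact hiU.le ⟨w, rfl⟩
  let π : (Functor.const Jᵒᵖ).obj W ⟶ D :=
    { app := fun b => IsOpenImmersion.lift (O b.unop).ι (i ≫ A.pr b.unop.1) (hpr _)
      naturality := fun a b f => by
        refine (Category.id_comp _).trans ?_
        rw [← cancel_mono (O b.unop).ι, IsOpenImmersion.lift_fac,
          Category.assoc, Scheme.Hom.resLE_comp_ι, IsOpenImmersion.lift_fac_assoc, Category.assoc, A.pr_tr] }
  have hπ : ∀ b, π.app (op b) ≫ (O b).ι = i ≫ A.pr b.1 := fun b => IsOpenImmersion.lift_fac _ _ _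
  have hcof : ∀ a, ∃ b : J, a ≤ b.1 := fun a => by
    obtain ⟨c, h1, h2⟩ := exists_ge_ge a i₀.unop
    exact ⟨⟨c, h2⟩, h1⟩
  let f : J →o A.I := ⟨Subtype.val, fun _ _ h => h⟩
  have hlift : ∀ s : Cone D, ∃ g : s.pt ⟶ W, ∀ b, g ≫ π.app b = s.π.app b := by
    intro s
    obtain ⟨g, hg⟩ := A.exists_lift_above f hcof (fun b => s.π.app (op b) ≫ (O b).ι) fun a b h => by
      rw [Category.assoc, show (O b).ι ≫ A.tr (f.mono h) = D.map (homOfLE h).op ≫ (O a).ι from
        ((hsq a b h).w).symm, ← Category.assoc, s.w]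
    have hr : Set.range g ⊆ Set.range i := by
      rintro _ ⟨x, rfl⟩
      have h0 := hg ⟨i₀.unop, le_rfl⟩
      show g x ∈ i.opensRange
      rw [hiU]
      show (g ≫ A.pr (f ⟨i₀.unop, le_rfl⟩)) x ∈ U
      rw [h0]
      have := (s.π.app (op ⟨i₀.unop, le_rfl⟩) x).2
      simp only [O, A.tr_self] at this
      exact this
    refine ⟨IsOpenImmersion.lift i g hr, fun b => ?_⟩
    rw [← cancel_mono (O b.unop).ι, Category.assoc, hπ, IsOpenImmersion.lift_fac_assoc]
    exact hg b.unop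
  choose g hg using hlift
  let B : Appr W :=
    { I := J
      D := D
      aff := fun a b a' => by
        haveI : IsAffineHom (A.tr (show b.unop.1 ≤ a.unop.1 from leOfHom a'.unop)) := inferInstance
        exact MorphismProperty.of_isPullback (P := @IsAffineHom)
          (show IsPullback (D.map a') (O a.unop).ι (O b.unop).ι _ from hsq b.unop a.unop (leOfHom a'.unop)).flip
          inferInstance
      ftz := fun b => by
        haveI : CompactSpace (O b.unop : Scheme.{u}) :=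
          isCompact_iff_compactSpace.mp ((A.tr b.unop.2).isCompact_preimage hUc)
        exact (A.ftz _).of_open (O b.unop).ι
      π := π
      lim :=
        { lift := g
          fac := hg
          uniq := fun s m hm => by
            rw [← cancel_mono i]
            exact A.hom_ext_above f hcof fun b => by
              rw [Category.assoc, Category.assoc, show f b = b.1 from rfl, ← hπ, ← Category.assoc, ← Category.assoc]
              exact congrArg (· ≫ (O b).ι) ((hm (op b)).trans (hg s (op b)).symm) } }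
  refine ⟨B, f, fun b => (O b).ι, hcof, fun b => inferInstance,
    hsq, fun b => isPullback_of_preimage (hπ b) fun x hx => ?_⟩
  rw [Scheme.Opens.range_ι] at hx
  show x ∈ i.opensRange
  rw [hiU]
  show (A.pr i₀.unop) x ∈ U
  rw [← A.pr_tr b.2]
  exact hx

end Groth.Agent.LimitsH94.Approx
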