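import Groth.Agent.LimitsH94.Approx.Eventually
import Groth.Agent.MorLib.IdealFG2
import Groth.Agent.MorLib.GenFinite
import Groth.Agent.AlgSpDec.LimFiniteScheme

/-! A closed subscheme is the limit of the closed subschemes of finite presentation containing it. -/

set_option autoImplicit false
set_option backward.isDefEq.respectTransparency false
set_option backward.isDefEq.respectTransparency.types false
set_option linter.style.haveILetI false
universe u

open CategoryTheory Limits AlgebraicGeometry Opposite TopologicalSpace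
open Scheme (IdealSheafData)
open Groth.Agent.MorLib.IdealFG

namespace Groth.Agent.LimitsH94.Approx

/-- The closed subschemes of finite presentation containing a closed subscheme. -/
theorem exists_closed_system {X P S : Scheme.{u}} (i : X ⟶ P) [IsClosedImmersion i] (p : P ⟶ S)
    [CompactSpace P] [QuasiSeparatedSpace P] (f : X ⟶ S) (hf : i ≫ p = f) :
    ∃ (J : Type u) (_ : Preorder J) (_ : IsDirected J (fun a b => a ≤ b)) (_ : Nonempty J)
      (D : Jᵒᵖ ⥤ Over S) (π : (Functor.const Jᵒᵖ).obj (Over.mk f) ⟶ D) (_ : IsLimit (Cone.mk (Over.mk f) π)),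
      (∀ k, ∃ z : (D.obj k).left ⟶ P, IsClosedImmersion z ∧ LocallyOfFinitePresentation z ∧ z ≫ p = (D.obj k).hom ∧
        z.ker ≤ i.ker ∧ IsFG z.ker) ∧
      (∀ k, IsClosedImmersion (π.app k).left) ∧ ∀ (k l : Jᵒᵖ) (a : k ⟶ l), IsClosedImmersion (D.map a).left := by
  let J := Sub i.ker
  let inc : ∀ {K L : J}, K ≤ L → (L.1.subscheme ⟶ K.1.subscheme) := fun {K L} h =>
    IdealSheafData.inclusion (show K.1 ≤ L.1 from h)
  have hinc : ∀ {K L : J} (h : K ≤ L), inc h ≫ K.1.subschemeι = L.1.subschemeι :=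
    fun h => IdealSheafData.inclusion_subschemeι _
  let g : ∀ K : J, X ⟶ K.1.subscheme := fun K =>
    IsClosedImmersion.lift K.1.subschemeι i (by rw [IdealSheafData.ker_subschemeι]; exact K.2.1)
  have hg : ∀ K, g K ≫ K.1.subschemeι = i := fun K => IsClosedImmersion.lift_fac _ _ _
  let D : Jᵒᵖ ⥤ Over S :=
    { obj := fun K => Over.mk (K.unop.1.subschemeι ≫ p)
      map := fun {K L} a => Over.homMk (inc (leOfHom a.unop))
        (show inc (leOfHom a.unop) ≫ L.unop.1.subschemeι ≫ p = K.unop.1.subschemeι ≫ p by rw [reassoc_of% (hinc (leOfHom a.unop))])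
      map_id := fun K => Over.OverMorphism.ext (by
        show inc (le_refl K.unop) = 𝟙 _
        rw [← cancel_mono K.unop.1.subschemeι, hinc (le_refl K.unop), Category.id_comp])
      map_comp := fun {K L M} a b => Over.OverMorphism.ext (by
        show inc (leOfHom (a ≫ b).unop) = inc (leOfHom a.unop) ≫ inc (leOfHom b.unop)
        rw [← cancel_mono M.unop.1.subschemeι, hinc (leOfHom (a ≫ b).unop), Category.assoc, hinc (leOfHom b.unop),
          hinc (leOfHom a.unop)]) }
  let π : (Functor.const Jᵒᵖ).obj (Over.mk f) ⟶ D :=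
    { app := fun K => Over.homMk (g K.unop) (show g K.unop ≫ K.unop.1.subschemeι ≫ p = f by rw [reassoc_of% (hg K.unop), hf])
      naturality := fun K L a => Over.OverMorphism.ext (by
        show 𝟙 X ≫ g L.unop = g K.unop ≫ inc (leOfHom a.unop)
        rw [← cancel_mono L.unop.1.subschemeι, Category.id_comp, hg, Category.assoc, hinc (leOfHom a.unop), hg]) }
  have hlift : ∀ s : Cone D, ∃ m : s.pt ⟶ Over.mk f, ∀ K, m ≫ π.app K = s.π.app K := by
    intro s
    let t : ∀ K : J, s.pt.left ⟶ P := fun K => (s.π.app (op K)).left ≫ K.1.subschemeι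
    have hmono : ∀ K L : J, K ≤ L → t L = t K := fun K L h => by
      have e : (s.π.app (op L)).left ≫ inc h = (s.π.app (op K)).left := by
        have e := congrArg Over.Hom.left (s.w (homOfLE h).op)
        exact e
      show (s.π.app (op L)).left ≫ L.1.subschemeι = (s.π.app (op K)).left ≫ K.1.subschemeι
      rw [← e, Category.assoc, hinc h]
    have hconst : ∀ K L : J, t K = t L := fun K L => by
      obtain ⟨M, h1, h2⟩ := exists_ge_ge K L
      rw [← hmono K M h1, hmono L M h2]
    let K₀ : J := Classical.arbitrary J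
    have hle : i.ker ≤ (t K₀).ker := le_of_forall_sub fun K => by
      rw [hconst K₀ K]
      exact (IdealSheafData.ker_subschemeι K.1).ge.trans (Scheme.Hom.le_ker_comp _ _)
    refine ⟨Over.homMk (IsClosedImmersion.lift i (t K₀) hle) ?_, fun K => Over.OverMorphism.ext ?_⟩
    · show IsClosedImmersion.lift i (t K₀) hle ≫ f = s.pt.hom
      rw [← hf, IsClosedImmersion.lift_fac_assoc]
      exact (Category.assoc _ _ _).trans (Over.w (s.π.app (op K₀)))
    · show IsClosedImmersion.lift i (t K₀) hle ≫ g K.unop = (s.π.app K).left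
      rw [← cancel_mono K.unop.1.subschemeι, Category.assoc, hg, IsClosedImmersion.lift_fac]
      exact hconst K₀ K.unop
  choose lift hliftfac using hlift
  refine ⟨J, inferInstance, inferInstance, inferInstance, D, π,
    { lift := lift
      fac := hliftfac
      uniq := fun s m hm => Over.OverMorphism.ext ?_ },
    fun K => ⟨K.unop.1.subschemeι, inferInstance, lfp_subschemeι K.unop.2.2, rfl,
      (IdealSheafData.ker_subschemeι _).le.trans K.unop.2.1, (IdealSheafData.ker_subschemeι K.unop.1).symm ▸ K.unop.2.2⟩, fun K => ?_, fun K L a => ?_⟩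
  · have e := congrArg Over.Hom.left ((hm (op (Classical.arbitrary J))).trans (hliftfac s _).symm)
    have e' : (m.left ≫ g _) ≫ _ = ((lift s).left ≫ g _) ≫ _ :=
      congrArg (· ≫ (Classical.arbitrary J).1.subschemeι) e
    rwa [Category.assoc, Category.assoc, hg, cancel_mono] at e'
  · show IsClosedImmersion (g K.unop)
    haveI : IsClosedImmersion (g K.unop ≫ K.unop.1.subschemeι) := by rw [hg]; infer_instance
    exact IsClosedImmersion.of_comp _ K.unop.1.subschemeι
  · show IsClosedImmersion (inc (leOfHom a.unop))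
    haveI : IsClosedImmersion (inc (leOfHom a.unop) ≫ L.unop.1.subschemeι) := by
      rw [hinc (leOfHom a.unop)]; infer_instance
    exact IsClosedImmersion.of_comp _ L.unop.1.subschemeι

/-- A system with finite transition maps whose limit is integral is eventually finite. -/
theorem exists_stage_isFinite {I : Type u} [SmallCategory I] [IsCofiltered I] {D : I ⥤ Scheme.{u}} {c : Cone D}
    {S : Scheme.{u}} (hc : IsLimit c) [hcl : ∀ (i j : I) (a : i ⟶ j), IsFinite (D.map a)]
    [∀ i, CompactSpace (D.obj i)] [∀ i, QuasiSeparatedSpace (D.obj i)] [CompactSpace S]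
    [QuasiSeparatedSpace S]
    (t : ∀ i, D.obj i ⟶ S) (ht : ∀ {i j : I} (a : i ⟶ j), D.map a ≫ t j = t i)
    [∀ i, LocallyOfFiniteType (t i)]
    (τ : c.pt ⟶ S) (hτ : ∀ i, c.π.app i ≫ t i = τ) [IsIntegralHom τ] :
    ∃ i₀, ∀ i, (i ⟶ i₀) → IsFinite (t i) := by
  classical
  obtain ⟨i₀⟩ := IsCofiltered.nonempty (C := I)
  haveI : ∀ {i j : I} (a : i ⟶ j), IsAffineHom (D.map a) := fun {i j} a => by haveI := hcl i j a; infer_instance
  obtain ⟨T, hT⟩ := isCompact_univ.elim_finite_subcover (fun W : S.affineOpens => (W.1 : Set S))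
    (fun W => W.1.2) fun x _ => by
      obtain ⟨W, hW, hxW, -⟩ := exists_isAffineOpen_mem_and_subset (x := x) (U := (⊤ : S.Opens)) trivial
      exact Set.mem_iUnion.2 ⟨⟨W, hW⟩, hxW⟩
  have key : ∀ W : S.affineOpens, ∃ i₁, ∀ i, (i ⟶ i₁) → IsFinite (t i ∣_ W.1) := by
    intro W
    let U : (D.obj i₀).Opens := t i₀ ⁻¹ᵁ W.1
    haveI : IsAffine (W.1 : Scheme.{u}) := W.2
    have hU : ∀ j : Over i₀, D.map j.hom ⁻¹ᵁ U = t j.left ⁻¹ᵁ W.1 := fun j => by
      simp only [U, ← Scheme.Hom.comp_preimage, ht]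
    let R := opensDiagram D i₀ U
    let r : ∀ j : Over i₀, R.obj j ⟶ (W.1 : Scheme.{u}) := fun j => (t j.left).resLE W.1 _ (hU j).le
    haveI hRc : ∀ j : Over i₀, CompactSpace (R.obj j) := fun j => isCompact_iff_compactSpace.mp
      (show IsCompact ((D.map j.hom ⁻¹ᵁ U : (D.obj j.left).Opens) : Set (D.obj j.left)) by
        rw [hU j]; exact (t j.left).isCompact_preimage W.2.isCompact)
    haveI hRq : ∀ j : Over i₀, QuasiSeparatedSpace (R.obj j) := fun j =>
      quasiSeparatedSpace_of_quasiSeparated (D.map j.hom ⁻¹ᵁ U).ι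
    haveI : ∀ {a b : Over i₀} (φ : a ⟶ b), IsFinite (R.map φ) := fun {a b} φ => by
      haveI := hcl _ _ φ.left
      exact MorphismProperty.of_isPullback (P := @IsFinite)
        (isPullback_of_preimage (f := R.map φ) (i := (D.map a.hom ⁻¹ᵁ U).ι) (k := (D.map b.hom ⁻¹ᵁ U).ι)
          (g := D.map φ.left) (Scheme.Hom.resLE_comp_ι _ _) fun x hx => by
            have hx' := (Scheme.Opens.range_ι _).le hx
            refine (Scheme.Opens.range_ι _).ge ?_
            show x ∈ D.map a.hom ⁻¹ᵁ U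
            rw [← Over.w φ, D.map_comp]
            exact hx').flip inferInstance
    haveI : ∀ j, LocallyOfFiniteType (r j) := fun j => by
      haveI : LocallyOfFiniteType (r j ≫ W.1.ι) := by
        rw [Scheme.Hom.resLE_comp_ι]; infer_instance
      exact locallyOfFiniteType_of_comp _ W.1.ι
    have hr : ∀ {a b : Over i₀} (φ : a ⟶ b), R.map φ ≫ r b = r a := fun {a b} φ => by
      show (D.map φ.left).resLE _ _ _ ≫ (t b.left).resLE W.1 _ _ = (t a.left).resLE W.1 _ _
      rw [Scheme.Hom.resLE_comp_resLE]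
      simp only [ht]
    have e₀ : c.π.app i₀ ⁻¹ᵁ U = τ ⁻¹ᵁ W.1 := by rw [← hτ i₀, Scheme.Hom.comp_preimage]
    let q : (opensCone D c i₀ U).pt ⟶ (W.1 : Scheme.{u}) := τ.resLE W.1 _ e₀.le
    haveI : IsIntegralHom q := by
      haveI := IsZariskiLocalAtTarget.restrict (P := @IsIntegralHom) ‹IsIntegralHom τ› W.1
      have : q = (c.pt.isoOfEq e₀).hom ≫ (τ ∣_ W.1) := by
        rw [← cancel_mono W.1.ι, Scheme.Hom.resLE_comp_ι, Category.assoc, morphismRestrict_ι,
          Scheme.isoOfEq_hom_ι_assoc]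
      rw [this]
      infer_instance
    have hq : ∀ j, (opensCone D c i₀ U).π.app j ≫ r j = q := fun j => by
      rw [← cancel_mono W.1.ι, Category.assoc, Scheme.Hom.resLE_comp_ι]
      show (c.π.app j.left).resLE _ _ _ ≫ _ = τ.resLE W.1 _ e₀.le ≫ W.1.ι
      rw [Scheme.Hom.resLE_comp_ι, Scheme.Hom.resLE_comp_ι_assoc, hτ]
    obtain ⟨j, hj⟩ := AlgSpDec.exists_isFinite_stage (isLimitOpensCone D c hc i₀ U) r hr q hq
    refine ⟨j.left, fun i a => ?_⟩
    let k : Over i₀ := Over.mk (a ≫ j.hom)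
    haveI : IsFinite (r k) := hj k (Over.homMk a rfl)
    have : t i ∣_ W.1 = ((D.obj i).isoOfEq (hU k)).inv ≫ r k := by
      rw [← cancel_mono W.1.ι, morphismRestrict_ι, Category.assoc, Scheme.Hom.resLE_comp_ι,
        Scheme.isoOfEq_inv_ι_assoc]
      rfl
    rw [this]
    infer_instance
  choose i₁ hi₁ using key
  obtain ⟨l, hl⟩ := IsCofiltered.inf_objs_exists (T.image i₁)
  refine ⟨l, fun i a => IsZariskiLocalAtTarget.of_iSup_eq_top (P := @IsFinite) (fun W : T => W.1.1) ?_ fun W => ?_⟩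
  · refine top_le_iff.1 fun x _ => ?_
    obtain ⟨W, hW, hx⟩ := Set.mem_iUnion₂.1 (hT (Set.mem_univ x))
    exact Opens.mem_iSup.2 ⟨⟨W, hW⟩, hx⟩
  · exact hi₁ W.1 i (a ≫ (hl (Finset.mem_image_of_mem _ W.2)).some)

/-- An integral morphism of finite type into a scheme of finite presentation. -/
theorem exists_finite_system {X S : Scheme.{u}} (f : X ⟶ S) [IsFinite f] [CompactSpace S] [QuasiSeparatedSpace S] :
    ∃ (J : Type u) (_ : Preorder J) (_ : IsDirected J (fun a b => a ≤ b)) (_ : Nonempty J)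
      (D : Jᵒᵖ ⥤ Over S) (π : (Functor.const Jᵒᵖ).obj (Over.mk f) ⟶ D) (_ : IsLimit (Cone.mk (Over.mk f) π)),
      (∀ k, IsFinite (D.obj k).hom ∧ LocallyOfFinitePresentation (D.obj k).hom) ∧
      (∀ k, IsClosedImmersion (π.app k).left) ∧ ∀ (k l : Jᵒᵖ) (a : k ⟶ l), IsClosedImmersion (D.map a).left := by
  haveI : CompactSpace X := QuasiCompact.compactSpace_of_compactSpace f
  haveI : QuasiSeparatedSpace X := quasiSeparatedSpace_of_quasiSeparated f
  obtain ⟨P, i, p, -, hp, hpc, hpq, -, hcl, hip⟩ := exists_factor f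
  haveI := hcl inferInstance
  haveI : CompactSpace P := QuasiCompact.compactSpace_of_compactSpace p
  haveI : QuasiSeparatedSpace P := quasiSeparatedSpace_of_quasiSeparated p
  obtain ⟨J, _, _, _, D, π, hlim, hD, hπ, htr⟩ := exists_closed_system i p f hip
  haveI : IsConnected Jᵒᵖ := IsCofiltered.isConnected _
  let D₀ : Jᵒᵖ ⥤ Scheme.{u} := D ⋙ Over.forget _
  let c₀ : Cone D₀ := (Over.forget _).mapCone (Cone.mk _ π)
  have hc₀ : IsLimit c₀ := isLimitOfPreserves (Over.forget _) hlim
  haveI : ∀ (a b : Jᵒᵖ) (φ : a ⟶ b), IsClosedImmersion (D₀.map φ) := htr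
  have hz : ∀ k, CompactSpace (D₀.obj k) ∧ QuasiSeparatedSpace (D₀.obj k) ∧
      LocallyOfFinitePresentation (D.obj k).hom := fun k => by
    obtain ⟨z, hz, hzf, hzp, -, -⟩ := hD k
    exact ⟨QuasiCompact.compactSpace_of_compactSpace z, quasiSeparatedSpace_of_quasiSeparated z,
      hzp ▸ inferInstance⟩
  haveI := fun k => (hz k).1
  haveI := fun k => (hz k).2.1
  haveI := fun k => (hz k).2.2
  obtain ⟨k₀, hk₀⟩ := exists_stage_isFinite hc₀ (fun k => (D.obj k).hom) (fun a => Over.w (D.map a)) f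
    (fun k => Over.w (π.app k))
  let J' := {k : J // k₀.unop ≤ k}
  haveI : Nonempty J' := ⟨⟨k₀.unop, le_rfl⟩⟩
  haveI : IsDirected J' (fun a b => a ≤ b) := ⟨fun a b => by
    obtain ⟨c, h1, h2⟩ := exists_ge_ge a.1 b.1
    exact ⟨⟨c, a.2.trans h1⟩, h1, h2⟩⟩
  let F : J' ⥤ J := (show Monotone (Subtype.val : J' → J) from fun _ _ h => h).functor
  haveI : F.Final := by
    refine Functor.final_of_exists_of_isFiltered _ (fun d => ?_) fun {d c} s s' => ⟨c, 𝟙 _, Subsingleton.elim _ _⟩
    obtain ⟨c, h1, h2⟩ := exists_ge_ge d k₀.unop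
    exact ⟨⟨c, h2⟩, ⟨homOfLE h1⟩⟩
  exact ⟨J', inferInstance, inferInstance, inferInstance, F.op ⋙ D,
    { app := fun k => π.app (op k.unop.1), naturality := fun a b g => π.naturality (F.op.map g) },
    (Functor.Initial.isLimitWhiskerEquiv F.op _).symm hlim,
    fun k => ⟨hk₀ _ (homOfLE k.unop.2).op, (hz _).2.2⟩, fun k => hπ _, fun a b g => htr _ _ _⟩

end Groth.Agent.LimitsH94.Approx
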