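import Groth.Agent.LimitsH94.Approx.Basic
import Mathlib.AlgebraicGeometry.AffineScheme

/-! Presentations of an affine scheme extending one of a quasi-compact open. -/

set_option autoImplicit false
set_option backward.isDefEq.respectTransparency false
set_option backward.isDefEq.respectTransparency.types false
set_option linter.style.haveILetI false
universe u

open CategoryTheory Limits AlgebraicGeometry Opposite TopologicalSpace

namespace Groth.Agent.LimitsH94.Approx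

/-- Restriction of a global section to a basic open, as a ring map. -/
noncomputable abbrev rs {Z : Scheme.{u}} (g : Γ(Z, ⊤)) : Γ(Z, ⊤) →+* Γ(Z, Z.basicOpen g) :=
  (Z.presheaf.map (homOfLE le_top).op).hom

theorem exists_kill {Z : Scheme.{u}} [CompactSpace Z] (g y : Γ(Z, ⊤)) (h : rs g y = 0) :
    ∃ n : ℕ, g ^ n * y = 0 :=
  exists_pow_mul_eq_zero_of_res_basicOpen_eq_zero_of_isCompact Z isCompact_univ y g h

theorem exists_clear {Z : Scheme.{u}} [CompactSpace Z] [QuasiSeparatedSpace Z] (g : Γ(Z, ⊤))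
    (x : Γ(Z, Z.basicOpen g)) : ∃ (n : ℕ) (y : Γ(Z, ⊤)), rs g y = rs g g ^ n * x :=
  exists_eq_pow_mul_of_isCompact_of_isQuasiSeparated Z ⊤ isCompact_univ isQuasiSeparated_univ g x

theorem isUnit_rs {Z : Scheme.{u}} (g : Γ(Z, ⊤)) : IsUnit (rs g g) :=
  RingedSpace.isUnit_res_basicOpen _ g

variable {W U Z : Scheme.{u}} (j : W ⟶ U) (p : W ⟶ Z)

/-- The fibre product of the rings of sections. -/
noncomputable abbrev fibRing : Subring (Γ(U, ⊤) × Γ(Z, ⊤)) :=
  RingHom.eqLocus (j.appTop.hom.comp (RingHom.fst _ _)) (p.appTop.hom.comp (RingHom.snd _ _))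

theorem mem_fibRing {r : Γ(U, ⊤) × Γ(Z, ⊤)} : r ∈ fibRing j p ↔ j.appTop r.1 = p.appTop r.2 := Iff.rfl

variable [IsAffine U] [IsOpenImmersion j] [CompactSpace W] [QuasiSeparatedSpace W]

theorem kill_fibRing [CompactSpace Z] {f : Γ(U, ⊤)} {g : Γ(Z, ⊤)} (hfg : j.appTop f = p.appTop g)
    (hf : U.basicOpen f ≤ j.opensRange) (r : fibRing j p) (h : rs g r.1.2 = 0) :
    ∃ N : ℕ, (⟨(f, g), hfg⟩ : fibRing j p) ^ N * r = 0 := by
  obtain ⟨n, hn⟩ := exists_kill g r.1.2 h
  have h1 : j.appTop (f ^ n * r.1.1) = 0 := by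
    rw [map_mul, map_pow, hfg, (mem_fibRing j p).1 r.2, ← map_pow, ← map_mul, hn, map_zero]
  haveI : IsIso (j.app (U.basicOpen f)) := j.isIso_app _ hf
  have h2 : rs f (f ^ n * r.1.1) = 0 := by
    refine (ConcreteCategory.bijective_of_isIso (j.app (U.basicOpen f))).1 ?_
    rw [map_zero]
    have := ConcreteCategory.congr_hom (j.naturality (homOfLE (le_top : U.basicOpen f ≤ ⊤)).op) (f ^ n * r.1.1)
    refine this.trans ?_
    show W.presheaf.map _ (j.appTop (f ^ n * r.1.1)) = 0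
    rw [h1, map_zero]
  obtain ⟨m, hm⟩ := exists_kill f _ h2
  refine ⟨m + n, Subtype.ext (Prod.ext ?_ ?_)⟩
  · show f ^ (m + n) * r.1.1 = 0
    rw [pow_add, mul_assoc, hm]
  · show g ^ (m + n) * r.1.2 = 0
    rw [pow_add, mul_assoc, hn, mul_zero]

theorem lift_fibRing [CompactSpace Z] [QuasiSeparatedSpace Z] {f : Γ(U, ⊤)} {g : Γ(Z, ⊤)}
    (hfg : j.appTop f = p.appTop g) (hf : U.basicOpen f ≤ j.opensRange) (x : Γ(Z, Z.basicOpen g)) :
    ∃ (N : ℕ) (r : fibRing j p), rs g r.1.2 = rs g g ^ N * x := by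
  haveI : IsIso (j.app (U.basicOpen f)) := j.isIso_app _ hf
  have hle : j ⁻¹ᵁ U.basicOpen f ≤ p ⁻¹ᵁ Z.basicOpen g := by
    rw [Scheme.preimage_basicOpen_top, Scheme.preimage_basicOpen_top, hfg]
  let x' : Γ(W, j ⁻¹ᵁ U.basicOpen f) := p.appLE _ _ hle x
  obtain ⟨a', ha'⟩ := (ConcreteCategory.bijective_of_isIso (j.app (U.basicOpen f))).2 x'
  obtain ⟨n, a, ha⟩ := exists_clear f a'
  obtain ⟨m, y, hy⟩ := exists_clear g x
  let res : Γ(W, ⊤) →+* Γ(W, j ⁻¹ᵁ U.basicOpen f) := (W.presheaf.map (homOfLE le_top).op).hom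
  have e1 : ∀ b, res (j.appTop b) = j.app (U.basicOpen f) (rs f b) := fun b =>
    (ConcreteCategory.congr_hom (j.naturality (homOfLE (le_top : U.basicOpen f ≤ ⊤)).op) b).symm
  have e2 : ∀ b, res (p.appTop b) = p.appLE _ _ hle (rs g b) := fun b => by
    show (p.appTop ≫ W.presheaf.map (homOfLE le_top).op) b =
      (Z.presheaf.map (homOfLE le_top).op ≫ p.appLE _ _ hle) b
    rw [Scheme.Hom.map_appLE]
    rfl
  let d : Γ(W, ⊤) := j.appTop (f ^ m * a) - p.appTop (g ^ n * y)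
  have hd : res d = 0 := by
    simp only [d, map_sub, map_mul, map_pow, e1, e2, ha, hy, sub_eq_zero, ha']
    have : j.app (U.basicOpen f) (rs f f) = p.appLE _ _ hle (rs g g) := by rw [← e1, ← e2, hfg]
    rw [this]
    simp only [x']
    ring
  have hres : j ⁻¹ᵁ U.basicOpen f = W.basicOpen (j.appTop f) := Scheme.preimage_basicOpen_top _ _
  obtain ⟨M, hM⟩ := exists_kill (j.appTop f) d (by
    have hh : rs (j.appTop f) d = W.presheaf.map (homOfLE hres.ge).op (res d) := by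
      show _ = (W.presheaf.map _ ≫ W.presheaf.map _) d
      rw [← Functor.map_comp]
      rfl
    rw [hh, hd, map_zero])
  refine ⟨M + n + m, ⟨(f ^ M * (f ^ m * a), g ^ M * (g ^ n * y)), ?_⟩, ?_⟩
  · rw [mem_fibRing]
    simp only [map_mul, map_pow, hfg] at hM ⊢
    simp only [d, map_sub, map_mul, map_pow, hfg, mul_sub, sub_eq_zero] at hM
    exact hM
  · show rs g (g ^ M * (g ^ n * y)) = _
    simp only [map_mul, map_pow, hy]
    ring

/-- The generators of the ring of an affine open of a scheme of finite type over the integers. -/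
theorem exists_generators {Z : Scheme.{u}} (h : FTZ Z) {V : Z.Opens} (hV : IsAffineOpen V) :
    ∃ t : Finset Γ(Z, V), Subring.closure (t : Set Γ(Z, V)) = ⊤ := by
  haveI := h.2
  have hft : ((Limits.IsTerminal.from specULiftZIsTerminal Z).appLE ⊤ V le_top).hom.FiniteType :=
    Scheme.Hom.finiteType_appLE _ (isAffineOpen_top _) hV _
  set α := ((Limits.IsTerminal.from specULiftZIsTerminal Z).appLE ⊤ V le_top).hom with hα
  letI := α.toAlgebra
  obtain ⟨t, ht⟩ : (⊤ : Subalgebra Γ(Spec (CommRingCat.of (ULift.{u} ℤ)), ⊤) Γ(Z, V)).FG := hft.out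
  refine ⟨t, top_le_iff.1 fun x _ => ?_⟩
  have hx : x ∈ Algebra.adjoin Γ(Spec (CommRingCat.of (ULift.{u} ℤ)), ⊤) (t : Set Γ(Z, V)) := by rw [ht]; trivial
  refine Algebra.adjoin_induction (fun y hy => Subring.subset_closure hy) (fun r => ?_)
    (fun _ _ _ _ => Subring.add_mem _) (fun _ _ _ _ => Subring.mul_mem _) hx
  obtain ⟨⟨n⟩, hn⟩ := (ConcreteCategory.bijective_of_isIso (Scheme.ΓSpecIso (CommRingCat.of (ULift.{u} ℤ))).inv).2 r
  rw [← hn]
  have : ((⟨n⟩ : ULift.{u} ℤ) : ULift.{u} ℤ) = (n : ULift.{u} ℤ) := rfl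
  rw [this, map_intCast, map_intCast]
  exact intCast_mem _ n

theorem isOpenImmersion_spec_of_bijective {B C : CommRingCat.{u}} (ψ : B ⟶ C) (G : B) (hu : IsUnit (ψ G))
    (hsurj : ∀ x : C, ∃ (n : ℕ) (b : B), ψ b = ψ G ^ n * x) (hker : ∀ b : B, ψ b = 0 → ∃ n : ℕ, G ^ n * b = 0) :
    IsOpenImmersion (Spec.map ψ) ∧ Set.range (Spec.map ψ) = (PrimeSpectrum.basicOpen G : Set (PrimeSpectrum B)) := by
  letI := ψ.hom.toAlgebra
  haveI : IsLocalization.Away G C := by
    refine IsLocalization.Away.mk G hu (fun x => ?_) fun a b hab => ?_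
    · obtain ⟨n, b, hb⟩ := hsurj x
      exact ⟨n, b, (mul_comm _ _).trans hb.symm⟩
    · obtain ⟨n, hn⟩ := hker (a - b) (by rw [map_sub, sub_eq_zero]; exact hab)
      exact ⟨n, by rwa [mul_sub, sub_eq_zero] at hn⟩
  exact ⟨IsOpenImmersion.of_isLocalization (S := C) G, PrimeSpectrum.localization_away_comap_range C G⟩

/-- A morphism to an affine scheme which over finitely many basic opens is the inclusion of an affine one. -/
theorem isOpenImmersion_toSpec {Z : Scheme.{u}} {B : CommRingCat.{u}} (ψ : B ⟶ Γ(Z, ⊤)) {κ : Type*} (G : κ → B)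
    (hcov : ⨆ k, Z.basicOpen (ψ (G k)) = ⊤) (haff : ∀ k, IsAffineOpen (Z.basicOpen (ψ (G k))))
    (hsurj : ∀ k x, ∃ (n : ℕ) (b : B), rs (ψ (G k)) (ψ b) = rs (ψ (G k)) (ψ (G k)) ^ n * x)
    (hker : ∀ k b, rs (ψ (G k)) (ψ b) = 0 → ∃ n : ℕ, G k ^ n * b = 0) :
    IsOpenImmersion (Z.toSpecΓ ≫ Spec.map ψ) ∧
      Set.range (Z.toSpecΓ ≫ Spec.map ψ) = ⋃ k, (PrimeSpectrum.basicOpen (G k) : Set (PrimeSpectrum B)) := by
  set ι := Z.toSpecΓ ≫ Spec.map ψ with hι
  let ψk := fun k => ψ ≫ Z.presheaf.map (homOfLE (le_top : Z.basicOpen (ψ (G k)) ≤ ⊤)).op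
  have hk := fun k => isOpenImmersion_spec_of_bijective (ψk k) (G k) (isUnit_rs _) (hsurj k) (hker k)
  have hc : ∀ k, (haff k).fromSpec ≫ ι = Spec.map (ψk k) := fun k => by
    rw [hι, IsAffineOpen.fromSpec_toSpecΓ_assoc, ← Spec.map_comp]
  haveI : ∀ k, IsOpenImmersion ((haff k).fromSpec ≫ ι) := fun k => by rw [hc]; exact (hk k).1
  have hpre : ∀ k z, ι z ∈ PrimeSpectrum.basicOpen (G k) → z ∈ Z.basicOpen (ψ (G k)) := fun k z hz => by
    have : z ∈ ι ⁻¹ᵁ (Spec B).basicOpen ((Scheme.ΓSpecIso B).inv (G k)) := by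
      show ι z ∈ (Spec B).basicOpen ((Scheme.ΓSpecIso B).inv (G k))
      rwa [basicOpen_eq_of_affine (G k)]
    rw [Scheme.preimage_basicOpen_top] at this
    have e : ι.appTop ((Scheme.ΓSpecIso B).inv (G k)) = ψ (G k) := by
      rw [hι, Scheme.Hom.comp_appTop, ← ConcreteCategory.comp_apply, ← Category.assoc,
        ← Scheme.ΓSpecIso_inv_naturality, Category.assoc, Scheme.toSpecΓ_appTop, Iso.inv_hom_id,
        Category.comp_id]
    rwa [e] at this
  have hmem : ∀ z, ∃ k q, (haff k).fromSpec q = z := fun z => by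
    obtain ⟨k, hz⟩ := Opens.mem_iSup.1 (hcov.ge (show z ∈ (⊤ : Z.Opens) from trivial))
    obtain ⟨q, hq⟩ : z ∈ Set.range (haff k).fromSpec := by rw [(haff k).range_fromSpec]; exact hz
    exact ⟨k, q, hq⟩
  have hran : ∀ k q, ι ((haff k).fromSpec q) ∈ PrimeSpectrum.basicOpen (G k) := fun k q => by
    rw [← Scheme.Hom.comp_apply, hc]
    exact (hk k).2.le ⟨q, rfl⟩
  refine ⟨?_, Set.ext fun y => ⟨?_, fun hy => ?_⟩⟩
  · have hinj : Function.Injective ι := fun z z' e => by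
      obtain ⟨k, q, rfl⟩ := hmem z
      obtain ⟨q', rfl⟩ : z' ∈ Set.range (haff k).fromSpec := by
        rw [(haff k).range_fromSpec]
        exact hpre k z' (e ▸ hran k q)
      have hq : q = q' := ((haff k).fromSpec ≫ ι).isOpenEmbedding.injective
        ((Scheme.Hom.comp_apply _ _ q).trans (e.trans (Scheme.Hom.comp_apply _ _ q').symm))
      rw [hq]
    have hopen : IsOpenMap ι := fun O hO => by
      have : ι '' O = ⋃ k, ((haff k).fromSpec ≫ ι) '' ((haff k).fromSpec ⁻¹' O) := by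
        ext y
        simp only [Set.mem_image, Set.mem_iUnion, Set.mem_preimage, Scheme.Hom.comp_apply]
        constructor
        · rintro ⟨z, hz, rfl⟩
          obtain ⟨k, q, rfl⟩ := hmem z
          exact ⟨k, q, hz, rfl⟩
        · rintro ⟨k, q, hq, rfl⟩
          exact ⟨_, hq, rfl⟩
      rw [this]
      exact isOpen_iUnion fun k =>
        ((haff k).fromSpec ≫ ι).isOpenEmbedding.isOpenMap _ (hO.preimage (haff k).fromSpec.continuous)
    haveI : ∀ z, IsIso (ι.stalkMap z) := fun z => by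
      obtain ⟨k, q, rfl⟩ := hmem z
      have h : IsIso (((haff k).fromSpec ≫ ι).stalkMap q) := inferInstance
      rw [Scheme.Hom.stalkMap_comp] at h
      exact @IsIso.of_isIso_comp_right _ _ _ _ _ _ ((haff k).fromSpec.stalkMap q) inferInstance h
    exact IsOpenImmersion.of_isIso_stalkMap _ (.of_continuous_injective_isOpenMap ι.continuous hinj hopen)
  · rintro ⟨z, rfl⟩
    obtain ⟨k, q, rfl⟩ := hmem z
    exact Set.mem_iUnion.2 ⟨k, hran k q⟩
  · obtain ⟨k, hy⟩ := Set.mem_iUnion.1 hy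
    obtain ⟨q, rfl⟩ := (hk k).2.ge hy
    exact ⟨(haff k).fromSpec q, by rw [← Scheme.Hom.comp_apply, hc]⟩

end Groth.Agent.LimitsH94.Approx
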