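import Mathlib.Algebra.Category.Ring.Basic
import Mathlib.CategoryTheory.Category.Preorder
import Mathlib.RingTheory.FiniteType
import Mathlib.RingTheory.Adjoin.FG

/-! The system of finitely generated subrings of a directed system of rings. -/

set_option autoImplicit false
universe u

open CategoryTheory

namespace Groth.Agent.LimitsH94.Approx

theorem finiteType_closure {R : Type u} [CommRing R] (t : Finset R) :
    Algebra.FiniteType ℤ (Subring.closure (t : Set R)) := by
  haveI : Algebra.FiniteType ℤ (Algebra.adjoin ℤ (t : Set R)) :=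
    (Subalgebra.fg_iff_finiteType _).1 (Subalgebra.fg_adjoin_finset t)
  have h : (Algebra.adjoin ℤ (t : Set R)).toSubring = Subring.closure (t : Set R) := by
    rw [Algebra.adjoin_int]; rfl
  let e : Algebra.adjoin ℤ (t : Set R) →+* Subring.closure (t : Set R) :=
    (Algebra.adjoin ℤ (t : Set R)).val.toRingHom.codRestrict _ fun x => h.le x.2
  exact Algebra.FiniteType.of_surjective e.toIntAlgHom fun y => ⟨⟨y.1, h.ge y.2⟩, Subtype.ext rfl⟩

variable {K : Type u} [Preorder K] (P : K ⥤ CommRingCat.{u}) (Good : ∀ a, Finset (P.obj a) → Prop)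

/-- The indices. -/
structure SubIdx : Type u where
  st : K
  gens : Finset (P.obj st)
  good : Good st gens

variable {P Good}

/-- The subring of an index. -/
abbrev SubIdx.ring (b : SubIdx P Good) : Subring (P.obj b.st) := Subring.closure (b.gens : Set (P.obj b.st))

instance : Preorder (SubIdx P Good) where
  le b c := ∃ h : b.st ≤ c.st, ∀ r ∈ b.ring, (P.map (homOfLE h)).hom r ∈ c.ring
  le_refl b := ⟨le_rfl, fun r hr => by rw [Subsingleton.elim (homOfLE (le_refl b.st)) (𝟙 _), P.map_id]; exact hr⟩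
  le_trans b c d := fun ⟨h, e⟩ ⟨h', e'⟩ => ⟨h.trans h', fun r hr => by
    rw [← homOfLE_comp h h', P.map_comp]
    exact e' _ (e r hr)⟩

theorem SubIdx.le_of_gens {b c : SubIdx P Good} (h : b.st ≤ c.st)
    (hg : ∀ r ∈ b.gens, (P.map (homOfLE h)).hom r ∈ c.ring) : b ≤ c := by
  refine ⟨h, fun r hr => ?_⟩
  have : b.ring ≤ c.ring.comap (P.map (homOfLE h)).hom := Subring.closure_le.2 hg
  exact this hr

theorem SubIdx.isDirected [IsDirected K (fun a b => a ≤ b)]
    (hgood : ∀ a (t₀ : Finset (P.obj a)), ∃ t, t₀ ⊆ t ∧ Good a t) :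
    IsDirected (SubIdx P Good) (fun a b => a ≤ b) := by
  classical
  refine ⟨fun b c => ?_⟩
  obtain ⟨d, h1, h2⟩ := exists_ge_ge b.st c.st
  obtain ⟨t, hsub, ht⟩ := hgood d (b.gens.image (P.map (homOfLE h1)).hom ∪ c.gens.image (P.map (homOfLE h2)).hom)
  refine ⟨⟨d, t, ht⟩, SubIdx.le_of_gens h1 fun r hr => ?_, SubIdx.le_of_gens h2 fun r hr => ?_⟩
  · exact Subring.subset_closure (hsub (Finset.mem_union_left _ (Finset.mem_image_of_mem _ hr)))
  · exact Subring.subset_closure (hsub (Finset.mem_union_right _ (Finset.mem_image_of_mem _ hr)))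

theorem SubIdx.nonempty [h : Nonempty K] (hgood : ∀ a (t₀ : Finset (P.obj a)), ∃ t, t₀ ⊆ t ∧ Good a t) :
    Nonempty (SubIdx P Good) := by
  obtain ⟨a⟩ := h
  obtain ⟨t, -, ht⟩ := hgood a ∅
  exact ⟨⟨a, t, ht⟩⟩

/-- The transition homomorphism. -/
def SubIdx.tr {b c : SubIdx P Good} (h : b ≤ c) : b.ring →+* c.ring :=
  (P.map (homOfLE h.1)).hom.restrict b.ring c.ring h.2

theorem SubIdx.coe_tr {b c : SubIdx P Good} (h : b ≤ c) (r : b.ring) :
    (SubIdx.tr h r).1 = (P.map (homOfLE h.1)).hom r.1 := rfl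

variable (P Good)

/-- The system of subrings. -/
def subSys : SubIdx P Good ⥤ CommRingCat.{u} where
  obj b := CommRingCat.of b.ring
  map f := CommRingCat.ofHom (SubIdx.tr (leOfHom f))
  map_id b := CommRingCat.hom_ext (RingHom.ext fun r => Subtype.ext (by
    show (P.map (homOfLE _)).hom r.1 = r.1
    rw [Subsingleton.elim (homOfLE _) (𝟙 b.st), P.map_id]; rfl))
  map_comp {b c d} f g := CommRingCat.hom_ext (RingHom.ext fun r => Subtype.ext (by
    show (P.map (homOfLE _)).hom r.1 = (P.map (homOfLE _)).hom ((P.map (homOfLE _)).hom r.1)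
    rw [← homOfLE_comp (leOfHom f).1 (leOfHom g).1, P.map_comp]; rfl))

/-- The inclusion in the system. -/
def subSysIncl (b : SubIdx P Good) : (subSys P Good).obj b ⟶ P.obj b.st := CommRingCat.ofHom b.ring.subtype

end Groth.Agent.LimitsH94.Approx
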