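import Groth.Agent.LimitsH94.Approx.Affine
import Groth.Agent.LimitsH94.Approx.SubSys

/-! An approximation of an affine scheme relative to a quasi-compact open. -/

set_option autoImplicit false
set_option backward.isDefEq.respectTransparency false
set_option backward.isDefEq.respectTransparency.types false
set_option linter.style.haveILetI false
universe u

open CategoryTheory Limits AlgebraicGeometry Opposite TopologicalSpace

namespace Groth.Agent.LimitsH94.Approx

variable {W U : Scheme.{u}}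

/-- The global sections at a stage. -/
noncomputable abbrev Appr.tg (A : Appr W) {a b : A.I} (h : a ≤ b) :
    Γ(A.D.obj (op a), ⊤) →+* Γ(A.D.obj (op b), ⊤) := (A.tr h).appTop.hom

theorem Appr.tg_tg (A : Appr W) {a b c : A.I} (h : a ≤ b) (h' : b ≤ c) (x : Γ(A.D.obj (op a), ⊤)) :
    A.tg h' (A.tg h x) = A.tg (h.trans h') x := by
  show ((A.tr h).appTop ≫ (A.tr h').appTop) x = _
  rw [← Scheme.Hom.comp_appTop, A.tr_tr]

theorem Appr.pr_tg (A : Appr W) {a b : A.I} (h : a ≤ b) (x : Γ(A.D.obj (op a), ⊤)) :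
    (A.pr b).appTop (A.tg h x) = (A.pr a).appTop x := by
  show ((A.tr h).appTop ≫ (A.pr b).appTop) x = _
  rw [← Scheme.Hom.comp_appTop, A.pr_tr]

theorem Appr.basicOpen_tg (A : Appr W) {a b : A.I} (h : a ≤ b) (x : Γ(A.D.obj (op a), ⊤)) :
    (A.D.obj (op b)).basicOpen (A.tg h x) = A.tr h ⁻¹ᵁ (A.D.obj (op a)).basicOpen x :=
  (Scheme.preimage_basicOpen_top _ _).symm

theorem Appr.exists_section (A : Appr W) (s : Γ(W, ⊤)) :
    ∃ (a : A.I) (t : Γ(A.D.obj (op a), ⊤)), (A.pr a).appTop t = s := by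
  obtain ⟨i, t, ht⟩ := exists_appTop_π_eq_of_isLimit A.D (Cone.mk W A.π) A.lim s
  exact ⟨i.unop, t, ht.symm⟩

theorem Appr.exists_eq_zero (A : Appr W) {a : A.I} (x : Γ(A.D.obj (op a), ⊤)) (hx : (A.pr a).appTop x = 0) :
    ∃ (b : A.I) (h : a ≤ b), A.tg h x = 0 := by
  obtain ⟨j, f, hf⟩ := exists_appTop_map_eq_zero_of_isLimit A.D (Cone.mk W A.π) A.lim x hx
  refine ⟨j.unop, leOfHom f.unop, ?_⟩
  rw [← hf, show A.D.map f = A.tr (leOfHom f.unop) from A.map_eq f]

/-- The stages where a family of functions describing the open is defined. -/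
theorem exists_base [IsAffine U] (j : W ⟶ U) [IsOpenImmersion j] [CompactSpace W] (A : Appr W) :
    ∃ (s : Type u) (_ : Finite s) (f : s → Γ(U, ⊤)) (i₀ : A.I) (g : s → Γ(A.D.obj (op i₀), ⊤)),
      (∀ k, U.basicOpen (f k) ≤ j.opensRange) ∧ (∀ k, j.appTop (f k) = (A.pr i₀).appTop (g k)) ∧
      ∀ (a : A.I) (h : i₀ ≤ a), (⨆ k, (A.D.obj (op a)).basicOpen (A.tg h (g k)) = ⊤) ∧
        ∀ k, IsAffineOpen ((A.D.obj (op a)).basicOpen (A.tg h (g k))) := by
  classical
  haveI : QuasiSeparatedSpace W := quasiSeparatedSpace_of_quasiSeparated j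
  -- the basic opens
  obtain ⟨s, hs, hsf, hsU⟩ := (isBasis_basicOpen U).exists_finite_of_isCompact
    (show IsCompact (j.opensRange : Set U) from isCompact_range j.continuous)
  haveI : Finite s := hsf
  choose f hf using fun k : s => hs k.2
  have hfle : ∀ k, U.basicOpen (f k) ≤ j.opensRange := fun k => by
    rw [hf k, hsU]; exact le_sSup k.2
  -- lift them to a stage
  choose a₁ t₁ ht₁ using fun k => A.exists_section (j.appTop (f k))
  obtain ⟨i₁, hi₁⟩ := Finite.exists_le a₁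
  let g₁ : ∀ k, Γ(A.D.obj (op i₁), ⊤) := fun k => A.tg (hi₁ k) (t₁ k)
  have hg₁ : ∀ k, (A.pr i₁).appTop (g₁ k) = j.appTop (f k) := fun k => by rw [A.pr_tg]; exact ht₁ k
  obtain ⟨j₂, e₂, hj₂⟩ := exists_map_eq_top A.D (Cone.mk W A.π) A.lim (i := op i₁)
    (⨆ k, (A.D.obj (op i₁)).basicOpen (g₁ k)) (by
      rw [Scheme.Hom.preimage_iSup]
      refine top_le_iff.1 fun w _ => ?_
      have hw : j w ∈ j.opensRange := ⟨w, rfl⟩
      rw [hsU, Opens.mem_sSup] at hw
      obtain ⟨V, hV, hwV⟩ := hw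
      refine Opens.mem_iSup.2 ⟨⟨V, hV⟩, ?_⟩
      show w ∈ A.pr i₁ ⁻¹ᵁ _
      rw [Scheme.preimage_basicOpen_top, hg₁, ← Scheme.preimage_basicOpen_top]
      exact (hf ⟨V, hV⟩).ge hwV)
  have haff' : ∀ k, ∃ (b : A.I) (h : i₁ ≤ b), IsAffineOpen ((A.D.obj (op b)).basicOpen (A.tg h (g₁ k))) := by
    intro k
    have hWk : IsAffineOpen (W.basicOpen (j.appTop (f k))) := by
      rw [← Scheme.preimage_basicOpen_top]
      exact ((isAffineOpen_top U).basicOpen (f k)).preimage_of_isOpenImmersion j (hfle k)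
    obtain ⟨b, V, hV, hVe⟩ := exists_isAffineOpen_preimage_eq A.D (Cone.mk W A.π) A.lim _ hWk
    obtain ⟨c, h1, h2⟩ := exists_ge_ge i₁ b.unop
    obtain ⟨d, e, hd⟩ := exists_map_preimage_eq_map_preimage A.D (Cone.mk W A.π) A.lim (i := op c)
      (U := (A.D.obj (op c)).basicOpen (A.tg h1 (g₁ k))) (V := A.tr h2 ⁻¹ᵁ V)
      ((isCompact_univ.of_isClosed_subset isClosed_univ (Set.subset_univ _)) |> fun h =>
        isCompact_basicOpen _ h _) ((A.tr h2).isCompact_preimage hV.isCompact) (by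
        show A.pr c ⁻¹ᵁ _ = A.pr c ⁻¹ᵁ _
        rw [Scheme.preimage_basicOpen_top, A.pr_tg, hg₁, ← Scheme.Hom.comp_preimage, A.pr_tr]
        exact hVe.symm)
    refine ⟨d.unop, h1.trans (leOfHom e.unop), ?_⟩
    rw [A.map_eq e] at hd
    rw [← A.tg_tg h1 (leOfHom e.unop), A.basicOpen_tg, hd]
    exact (hV.preimage _).preimage _
  choose a₃ hle₃ haff₃ using haff'
  obtain ⟨c₃, hc₃⟩ := Finite.exists_le a₃
  obtain ⟨i₀, h02, h03⟩ := exists_ge_ge j₂.unop c₃
  have hi₀ : i₁ ≤ i₀ := (leOfHom e₂.unop).trans h02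
  let K := {a : A.I // i₀ ≤ a}
  let g : ∀ (a : K) (k : s), Γ(A.D.obj (op a.1), ⊤) := fun a k => A.tg (hi₀.trans a.2) (g₁ k)
  have hcov : ∀ a : K, ⨆ k, (A.D.obj (op a.1)).basicOpen (g a k) = ⊤ := fun a => by
    have : A.tr (hi₀.trans a.2) ⁻¹ᵁ (⨆ k, (A.D.obj (op i₁)).basicOpen (g₁ k)) = ⊤ := by
      rw [A.map_eq e₂] at hj₂
      rw [← A.tr_tr (leOfHom e₂.unop) (h02.trans a.2), Scheme.Hom.comp_preimage, hj₂]
      rfl
    rw [Scheme.Hom.preimage_iSup] at this
    refine (iSup_congr fun k => ?_).trans this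
    exact A.basicOpen_tg _ _
  have haff : ∀ (a : K) k, IsAffineOpen ((A.D.obj (op a.1)).basicOpen (g a k)) := fun a k => by
    have h := (hc₃ k).trans (h03.trans a.2)
    simp only [g]
    rw [← A.tg_tg (hle₃ k) h, A.basicOpen_tg]
    exact (haff₃ k).preimage _
  refine ⟨s, inferInstance, f, i₀, fun k => A.tg hi₀ (g₁ k), hfle, fun k => ?_, fun a h => ?_⟩
  · rw [A.pr_tg, hg₁]
  · simp only [A.tg_tg]
    exact ⟨hcov ⟨a, h⟩, haff ⟨a, h⟩⟩

variable (j : W ⟶ U) [IsOpenImmersion j] (A : Appr W) (i₀ : A.I)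

/-- The stages above a given one. -/
abbrev Above : Type u := {a : A.I // i₀ ≤ a}

theorem fib_map_mem {a b : A.I} (h : a ≤ b) {r : Γ(U, ⊤) × Γ(A.D.obj (op a), ⊤)}
    (hr : r ∈ fibRing j (A.pr a)) :
    RingHom.prodMap (RingHom.id _) (A.tg h) r ∈ fibRing j (A.pr b) := by
  rw [mem_fibRing] at hr ⊢
  exact hr.trans (A.pr_tg h _).symm

/-- The system of fibre products. -/
noncomputable def fibSys : Above A i₀ ⥤ CommRingCat.{u} where
  obj a := CommRingCat.of (fibRing j (A.pr a.1))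
  map {a b} f := CommRingCat.ofHom
    ((RingHom.prodMap (RingHom.id Γ(U, ⊤)) (A.tg (show a.1 ≤ b.1 from leOfHom f))).restrict _ _
      fun _ hr => fib_map_mem j A _ hr)
  map_id a := CommRingCat.hom_ext (RingHom.ext fun r => Subtype.ext (Prod.ext rfl (by
    show (A.tr _).appTop r.1.2 = r.1.2
    rw [A.tr_self]; rfl)))
  map_comp f g := CommRingCat.hom_ext (RingHom.ext fun r => Subtype.ext (Prod.ext rfl (A.tg_tg _ _ _).symm))

/-- The first coordinate. -/
noncomputable def fibFst (a : Above A i₀) : (fibSys j A i₀).obj a ⟶ Γ(U, ⊤) :=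
  CommRingCat.ofHom ((RingHom.fst _ _).comp (fibRing j (A.pr a.1)).subtype)

/-- The second coordinate. -/
noncomputable def fibSnd (a : Above A i₀) : (fibSys j A i₀).obj a ⟶ Γ(A.D.obj (op a.1), ⊤) :=
  CommRingCat.ofHom ((RingHom.snd _ _).comp (fibRing j (A.pr a.1)).subtype)

variable {j A i₀}

@[reassoc]
theorem fibSys_fst {a b : Above A i₀} (f : a ⟶ b) :
    (fibSys j A i₀).map f ≫ fibFst j A i₀ b = fibFst j A i₀ a := rfl

@[reassoc]
theorem fibSys_snd {a b : Above A i₀} (f : a ⟶ b) :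
    (fibSys j A i₀).map f ≫ fibSnd j A i₀ b =
      fibSnd j A i₀ a ≫ (A.tr (show a.1 ≤ b.1 from leOfHom f)).appTop := rfl

variable {s : Type u} (f : s → Γ(U, ⊤)) (g : s → Γ(A.D.obj (op i₀), ⊤))
  (hfg : ∀ k, j.appTop (f k) = (A.pr i₀).appTop (g k))

/-- The distinguished elements. -/
noncomputable def fibG (a : Above A i₀) (k : s) : (fibSys j A i₀).obj a :=
  ⟨(f k, A.tg a.2 (g k)), (hfg k).trans (A.pr_tg a.2 (g k)).symm⟩

theorem fibSys_fibG {a b : Above A i₀} (h : a ⟶ b) (k : s) :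
    (fibSys j A i₀).map h (fibG f g hfg a k) = fibG f g hfg b k := by
  refine Subtype.ext (Prod.ext rfl ?_)
  exact A.tg_tg _ _ _

/-- Good finite sets of elements. -/
def GoodSet (a : Above A i₀) (t : Finset ((fibSys j A i₀).obj a)) : Prop :=
  (∀ k, fibG f g hfg a k ∈ Subring.closure (t : Set ((fibSys j A i₀).obj a))) ∧
    ∀ (k : s) (x : Γ(A.D.obj (op a.1), (A.D.obj (op a.1)).basicOpen (A.tg a.2 (g k)))),
      ∃ (n : ℕ) (r : (fibSys j A i₀).obj a), r ∈ Subring.closure (t : Set ((fibSys j A i₀).obj a)) ∧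
        rs (A.tg a.2 (g k)) (fibSnd j A i₀ a r) = rs (A.tg a.2 (g k)) (A.tg a.2 (g k)) ^ n * x

theorem exists_good [IsAffine U] [CompactSpace W] [Finite s] (hfle : ∀ k, U.basicOpen (f k) ≤ j.opensRange)
    (a : Above A i₀) (haff : ∀ k, IsAffineOpen ((A.D.obj (op a.1)).basicOpen (A.tg a.2 (g k))))
    (t₀ : Finset ((fibSys j A i₀).obj a)) : ∃ t, t₀ ⊆ t ∧ GoodSet f g hfg a t := by
  classical
  haveI : QuasiSeparatedSpace W := quasiSeparatedSpace_of_quasiSeparated j
  haveI := Fintype.ofFinite s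
  choose gen hgen using fun k => exists_generators (A.ftz (op a.1)) (haff k)
  choose N r hr using fun (k : s) (x : Γ(A.D.obj (op a.1), (A.D.obj (op a.1)).basicOpen (A.tg a.2 (g k)))) =>
    lift_fibRing j (A.pr a.1) (fibG f g hfg a k).2 (hfle k) x
  let t : Finset ((fibSys j A i₀).obj a) :=
    t₀ ∪ Finset.univ.image (fibG f g hfg a) ∪ Finset.univ.biUnion fun k => (gen k).image (r k)
  have hG : ∀ k, fibG f g hfg a k ∈ Subring.closure (t : Set ((fibSys j A i₀).obj a)) := fun k => Subring.subset_closure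
    (Finset.mem_union_left _ (Finset.mem_union_right _ (Finset.mem_image_of_mem _ (Finset.mem_univ k))))
  refine ⟨t, fun y hy => Finset.mem_union_left _ (Finset.mem_union_left _ hy), hG, fun k x => ?_⟩
  have hx : x ∈ Subring.closure (gen k : Set _) := by rw [hgen k]; trivial
  induction hx using Subring.closure_induction with
  | mem y hy =>
    refine ⟨N k y, r k y, Subring.subset_closure ?_, hr k y⟩
    exact Finset.mem_union_right _ (Finset.mem_biUnion.2 ⟨k, Finset.mem_univ k, Finset.mem_image_of_mem _ hy⟩)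
  | zero => exact ⟨0, 0, zero_mem _, by simp⟩
  | one => exact ⟨0, 1, one_mem _, by simp⟩
  | add y z _ _ hy hz =>
    obtain ⟨n, q, hq, e⟩ := hy
    obtain ⟨m, q', hq', e'⟩ := hz
    refine ⟨n + m, fibG f g hfg a k ^ m * q + fibG f g hfg a k ^ n * q', add_mem (mul_mem (pow_mem (hG k) _) hq)
      (mul_mem (pow_mem (hG k) _) hq'), ?_⟩
    simp only [map_add, map_mul, map_pow, e, e']
    show rs _ (A.tg a.2 (g k)) ^ m * _ + rs _ (A.tg a.2 (g k)) ^ n * _ = _
    ring
  | neg y _ hy =>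
    obtain ⟨n, q, hq, e⟩ := hy
    exact ⟨n, -q, neg_mem hq, by simp only [map_neg, e]; ring⟩
  | mul y z _ _ hy hz =>
    obtain ⟨n, q, hq, e⟩ := hy
    obtain ⟨m, q', hq', e'⟩ := hz
    exact ⟨n + m, q * q', mul_mem hq hq', by simp only [map_mul, e, e']; ring⟩

set_option maxHeartbeats 1000000 in
/-- An approximation of an affine scheme relative to an approximation of a quasi-compact open. -/
theorem exists_extend_affine [IsAffine U] (j : W ⟶ U) [IsOpenImmersion j] [CompactSpace W] (A : Appr W) :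
    ∃ B : Appr U, Nonempty (Rel j A B) := by
  classical
  obtain ⟨s, _, f, i₀, g, hfle, hfg, hst⟩ := exists_base j A
  haveI : QuasiSeparatedSpace W := quasiSeparatedSpace_of_quasiSeparated j
  haveI : Nonempty (Above A i₀) := ⟨⟨i₀, le_rfl⟩⟩
  haveI : IsDirected (Above A i₀) (fun a b => a ≤ b) := ⟨fun a b => by
    obtain ⟨c, h1, h2⟩ := exists_ge_ge a.1 b.1
    exact ⟨⟨c, a.2.trans h1⟩, h1, h2⟩⟩
  have hgood := fun a t => exists_good f g hfg hfle a (hst a.1 a.2).2 t
  let J := SubIdx (fibSys j A i₀) (GoodSet f g hfg)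
  haveI : IsDirected J (fun a b => a ≤ b) := SubIdx.isDirected hgood
  haveI : Nonempty J := SubIdx.nonempty hgood
  let F := subSys (fibSys j A i₀) (GoodSet f g hfg)
  let θ : ∀ b : J, F.obj b ⟶ Γ(U, ⊤) := fun b => subSysIncl _ _ b ≫ fibFst j A i₀ b.st
  let ψ : ∀ b : J, F.obj b ⟶ Γ(A.D.obj (op b.st.1), ⊤) := fun b => subSysIncl _ _ b ≫ fibSnd j A i₀ b.st
  have hθψ : ∀ (b : J) (r : F.obj b), j.appTop (θ b r) = (A.pr b.st.1).appTop (ψ b r) := fun b r =>
    (mem_fibRing j _).1 r.1.2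
  have hθ : ∀ {b c : J} (h : b ⟶ c), F.map h ≫ θ c = θ b := fun h => rfl
  let cc : Cocone F :=
    { pt := Γ(U, ⊤)
      ι :=
        { app := θ
          naturality := fun b c h => (hθ h).trans (Category.comp_id _).symm } }
  have hle : ∀ (b : J) (c : Above A i₀) (h : b.st ≤ c) (t : Finset ((fibSys j A i₀).obj c))
      (ht : GoodSet f g hfg c t), b.gens.image ((fibSys j A i₀).map (homOfLE h)).hom ⊆ t →
      b ≤ (⟨c, t, ht⟩ : J) := fun b c h t ht hsub =>
    SubIdx.le_of_gens h fun r hr => Subring.subset_closure (hsub (Finset.mem_image_of_mem _ hr))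
  have hcc : IsColimit cc := by
    haveI : ReflectsFilteredColimits (forget CommRingCat.{u}) :=
      ⟨fun _ => reflectsColimitsOfShape_of_reflectsIsomorphisms⟩
    refine isColimitOfReflects (forget CommRingCat.{u}) (Types.FilteredColimit.isColimitOf' _ _ ?_ ?_)
    · intro x
      obtain ⟨a, y, hy⟩ := A.exists_section (j.appTop x)
      obtain ⟨c, h1, h2⟩ := exists_ge_ge a i₀
      have hm : ((x, A.tg h1 y) : Γ(U, ⊤) × Γ(A.D.obj (op c), ⊤)) ∈ fibRing j (A.pr c) := by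
        rw [mem_fibRing]
        exact hy.symm.trans (A.pr_tg h1 y).symm
      let q : (fibSys j A i₀).obj ⟨c, h2⟩ := ⟨_, hm⟩
      obtain ⟨t, hsub, ht⟩ := hgood ⟨c, h2⟩ {q}
      exact ⟨⟨⟨c, h2⟩, t, ht⟩, ⟨q, Subring.subset_closure (hsub (Finset.mem_singleton_self _))⟩, rfl⟩
    · intro b r r' e
      have e' : θ b r = θ b r' := e
      have hz : (A.pr b.st.1).appTop (ψ b r - ψ b r') = 0 := by
        rw [map_sub, sub_eq_zero, ← hθψ, ← hθψ, e']
      obtain ⟨c, h, hc⟩ := A.exists_eq_zero _ hz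
      let c' : Above A i₀ := ⟨c, b.st.2.trans h⟩
      obtain ⟨t, hsub, ht⟩ := hgood c' (b.gens.image ((fibSys j A i₀).map (homOfLE (show b.st ≤ c' from h))).hom)
      refine ⟨⟨c', t, ht⟩, homOfLE (hle b c' h t ht hsub), Subtype.ext (Subtype.ext (Prod.ext e' ?_))⟩
      rw [map_sub, sub_eq_zero] at hc
      exact hc
  -- the schemes
  let ι : ∀ b : J, A.D.obj (op b.st.1) ⟶ Spec (F.obj b) := fun b => (A.D.obj _).toSpecΓ ≫ Spec.map (ψ b)
  let GB : ∀ (b : J) (k : s), F.obj b := fun b k => ⟨fibG f g hfg b.st k, b.good.1 k⟩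
  have hι : ∀ b, IsOpenImmersion (ι b) ∧ Set.range (ι b) =
      ⋃ k, (PrimeSpectrum.basicOpen (GB b k) : Set (PrimeSpectrum (F.obj b))) := fun b =>
    isOpenImmersion_toSpec (ψ b) (GB b) (hst b.st.1 b.st.2).1 (hst b.st.1 b.st.2).2
      (fun k x => by
        obtain ⟨n, r, hr, e⟩ := b.good.2 k x
        exact ⟨n, ⟨r, hr⟩, e⟩)
      fun k r hr => by
        obtain ⟨n, hn⟩ := kill_fibRing j (A.pr b.st.1) (fibG f g hfg b.st k).2 (hfle k) r.1 hr
        exact ⟨n, Subtype.ext hn⟩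
  have hcone : IsLimit (Scheme.Spec.mapCone cc.op) := isLimitOfPreserves Scheme.Spec hcc.op
  let π : (Functor.const Jᵒᵖ).obj U ⟶ F.op ⋙ Scheme.Spec :=
    { app := fun b => U.toSpecΓ ≫ Spec.map (θ b.unop)
      naturality := fun b c h => by
        refine (Category.id_comp _).trans ?_
        show U.toSpecΓ ≫ Spec.map (θ c.unop) = (U.toSpecΓ ≫ Spec.map (θ b.unop)) ≫ Spec.map (F.map h.unop)
        rw [Category.assoc, ← Spec.map_comp, hθ] }
  let B : Appr U :=
    { I := J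
      D := F.op ⋙ Scheme.Spec
      aff := fun b c h => inferInstanceAs (IsAffineHom (Spec.map (F.map h.unop)))
      ftz := fun b => by
        refine ⟨inferInstanceAs (CompactSpace (Spec (F.obj b.unop))), ?_⟩
        show LocallyOfFiniteType (Limits.IsTerminal.from specULiftZIsTerminal (Spec (F.obj b.unop)))
        let c : CommRingCat.of (ULift.{u} ℤ) ⟶ F.obj b.unop :=
          CommRingCat.ofHom ((Int.castRingHom _).comp (ULift.ringEquiv : ULift.{u} ℤ ≃+* ℤ).toRingHom)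
        rw [specULiftZIsTerminal.hom_ext (Limits.IsTerminal.from specULiftZIsTerminal _) (Spec.map c),
          HasRingHomProperty.Spec_iff (P := @LocallyOfFiniteType)]
        refine RingHom.FiniteType.comp ?_ (RingHom.FiniteType.of_surjective _ (RingEquiv.surjective _))
        exact RingHom.finiteType_algebraMap.2 (finiteType_closure b.unop.gens)
      π := π
      lim := IsLimit.ofIsoLimit hcone (Cone.ext U.isoSpec.symm fun b => by
        show Spec.map (θ b.unop) = U.isoSpec.inv ≫ U.toSpecΓ ≫ Spec.map (θ b.unop)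
        rw [Scheme.isoSpec_inv_toSpecΓ_assoc]) }
  let α : J →o A.I := ⟨fun b => b.st.1, fun _ _ h => h.1⟩
  refine ⟨B, ⟨
    { α := α
      cof := fun a => ?_
      ι := ι
      isOpen := fun b => (hι b).1
      sq := fun b c h => ?_
      sqπ := fun b => ?_ }⟩⟩
  · obtain ⟨c, h1, h2⟩ := exists_ge_ge a i₀
    obtain ⟨t, -, ht⟩ := hgood ⟨c, h2⟩ ∅
    exact ⟨⟨⟨c, h2⟩, t, ht⟩, h1⟩
  · haveI := (hι b).1
    haveI := (hι c).1
    have hmap : F.map (homOfLE h) ≫ ψ c = ψ b ≫ (A.tr h.1).appTop := rfl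
    refine isPullback_of_preimage ?_ fun x hx => ?_
    · show A.tr h.1 ≫ ι b = ι c ≫ Spec.map (F.map (homOfLE h))
      simp only [ι, Category.assoc, ← Spec.map_comp, hmap]
      rw [Scheme.toSpecΓ_naturality_assoc, ← Spec.map_comp]
    · obtain ⟨k, hk⟩ := Set.mem_iUnion.1 ((hι b).2.le hx)
      refine (hι c).2.ge (Set.mem_iUnion.2 ⟨k, ?_⟩)
      have e : F.map (homOfLE h) (GB b k) = GB c k := Subtype.ext (fibSys_fibG f g hfg (homOfLE h.1) k)
      rw [← e]
      exact hk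
  · haveI := (hι b).1
    refine isPullback_of_preimage ?_ fun x hx => ?_
    · show A.pr b.st.1 ≫ ι b = j ≫ U.toSpecΓ ≫ Spec.map (θ b)
      simp only [ι]
      rw [Scheme.toSpecΓ_naturality_assoc, Scheme.toSpecΓ_naturality_assoc, ← Spec.map_comp, ← Spec.map_comp]
      congr 2
      exact CommRingCat.hom_ext (RingHom.ext fun r => (hθψ b r).symm)
    · obtain ⟨k, hk⟩ := Set.mem_iUnion.1 ((hι b).2.le hx)
      show x ∈ j.opensRange
      refine hfle k ?_
      have h2 : U.toSpecΓ x ∈ PrimeSpectrum.basicOpen (θ b (GB b k)) := hk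
      have h3 : x ∈ U.toSpecΓ ⁻¹ᵁ PrimeSpectrum.basicOpen (f k) := h2
      rw [← basicOpen_eq_of_affine (f k), Scheme.preimage_basicOpen_top] at h3
      rwa [show U.toSpecΓ.appTop ((Scheme.ΓSpecIso Γ(U, ⊤)).inv (f k)) = f k from by
        rw [← ConcreteCategory.comp_apply, Scheme.toSpecΓ_appTop, Iso.inv_hom_id]; rfl] at h3

end Groth.Agent.LimitsH94.Approx
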