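import Groth.Agent.LimitsH94.Approx.Integral
import Groth.Agent.S0591
import Groth.Agent.S9187
import Groth.Agent.ChevAffine.Main
import Groth.Agent.MorLib.BaseChangeLim

/-! The image of an affine scheme under a universally closed morphism is affine. -/

set_option autoImplicit false
set_option backward.isDefEq.respectTransparency false
set_option backward.isDefEq.respectTransparency.types false
set_option linter.style.haveILetI false
universe u

open CategoryTheory Limits AlgebraicGeometry Opposite TopologicalSpace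

namespace Groth.Agent.LimitsH94.Approx

theorem isSeparated_of_surjective_universallyClosed {X S : Scheme.{u}} (f : X ⟶ S) [IsAffine X] [Surjective f]
    [UniversallyClosed f] : S.IsSeparated := by
  refine ⟨⟨?_⟩⟩
  let m : pullback (terminal.from X) (terminal.from X) ⟶ pullback (terminal.from S) (terminal.from S) :=
    pullback.map _ _ _ _ f f (𝟙 _) (terminal.hom_ext _ _) (terminal.hom_ext _ _)
  haveI : UniversallyClosed m := MorphismProperty.pullback_map (P := @UniversallyClosed) ‹_› ‹_› (terminal.hom_ext _ _) (terminal.hom_ext _ _)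
  have hm : pullback.diagonal (terminal.from X) ≫ m = f ≫ pullback.diagonal (terminal.from S) := by
    apply pullback.hom_ext <;> simp [m]
  refine IsClosedImmersion.of_isPreimmersion _ ?_
  have : Set.range (pullback.diagonal (terminal.from S)) = m '' Set.range (pullback.diagonal (terminal.from X)) := by
    ext z
    constructor
    · rintro ⟨s, rfl⟩
      obtain ⟨x, rfl⟩ := f.surjective s
      exact ⟨_, ⟨x, rfl⟩, by rw [← Scheme.Hom.comp_apply, hm, Scheme.Hom.comp_apply]⟩
    · rintro ⟨_, ⟨x, rfl⟩, rfl⟩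
      exact ⟨f x, by rw [← Scheme.Hom.comp_apply, ← hm, Scheme.Hom.comp_apply]⟩
  rw [this]
  exact m.isClosedMap _ (pullback.diagonal (terminal.from X)).isClosedEmbedding.isClosed_range

theorem isAffine_of_surjective_universallyClosed {X S : Scheme.{u}} (f : X ⟶ S) [IsAffine X] [Surjective f]
    [UniversallyClosed f] : IsAffine S := by
  haveI : CompactSpace S := f.surjective.compactSpace f.continuous
  haveI := isSeparated_of_surjective_universallyClosed f
  haveI : IsAffineHom f := by
    haveI : IsAffineHom (f ≫ terminal.from S) := by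
      rw [terminal.hom_ext (f ≫ terminal.from S) (terminal.from X)]; infer_instance
    exact IsAffineHom.of_comp f (terminal.from S)
  haveI : IsIntegralHom f := IsIntegralHom.iff_universallyClosed_and_isAffineHom.2 ⟨inferInstance, inferInstance⟩
  -- a finite morphism of finite presentation from an affine scheme
  obtain ⟨Y, g, hYaff, hgfin, hgfp, hgs⟩ : ∃ (Y : Scheme.{u}) (g : Y ⟶ S),
      IsAffine Y ∧ IsFinite g ∧ LocallyOfFinitePresentation g ∧ Surjective g := by
    obtain ⟨J, _, _, _, D, π, hlim, hD⟩ := exists_integral_system f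
    haveI : IsConnected Jᵒᵖ := IsCofiltered.isConnected _
    haveI : ∀ {i j : Jᵒᵖ} (a : i ⟶ j), IsAffineHom ((D ⋙ Over.forget S).map a) := fun {i j} a => by
      haveI := (hD i).1
      haveI := (hD j).1
      haveI : IsFinite ((D.map a).left ≫ (D.obj j).hom) := by rw [Over.w]; infer_instance
      exact IsAffineHom.of_comp (D.map a).left (D.obj j).hom
    haveI : ∀ i, CompactSpace ((D ⋙ Over.forget S).obj i) := fun i => by
      haveI := (hD i).1
      exact QuasiCompact.compactSpace_of_compactSpace (D.obj i).hom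
    haveI : ∀ i, QuasiSeparatedSpace ((D ⋙ Over.forget S).obj i) := fun i => by
      haveI := (hD i).1
      exact quasiSeparatedSpace_of_quasiSeparated (D.obj i).hom
    haveI : IsAffine ((Over.forget S).mapCone (Cone.mk _ π)).pt := inferInstanceAs (IsAffine X)
    obtain ⟨i, hi⟩ := Scheme.exists_isAffine_of_isLimit _ _ (isLimitOfPreserves (Over.forget S) hlim)
    refine ⟨_, (D.obj i).hom, hi, (hD i).1, (hD i).2, ⟨fun s => ?_⟩⟩
    obtain ⟨x, rfl⟩ := f.surjective s
    exact ⟨(π.app i).left x, by rw [← Scheme.Hom.comp_apply, Over.w (π.app i)]; rfl⟩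
  -- descend it to a Noetherian base
  obtain ⟨A⟩ := exists_appr S
  obtain ⟨i₀, Y₀, q₀, gY₀, hq₀, hq₀c, hq₀s, hpb₀⟩ := Groth.Agent.S0591.result A.D (Cone.mk S A.π) A.lim Y g
  haveI : CompactSpace Y₀ := QuasiCompact.compactSpace_of_compactSpace q₀
  haveI : QuasiSeparatedSpace Y₀ := quasiSeparatedSpace_of_quasiSeparated q₀
  obtain ⟨i₁, φ, Y₁', S₁', q₁', e₁, pS, pY, hpS, hpY, hq₁'⟩ :=
    Groth.Agent.S9187.result A.D (Cone.mk S A.π) A.lim i₀ q₀ (𝟙 _) g (𝟙 S) (A.π.app i₀) gY₀
      (IsPullback.of_vert_isIso ⟨by simp⟩) hpb₀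
  haveI : IsIso e₁ := hpS.isIso_snd_of_isIso
  let q₁ : Y₁' ⟶ A.D.obj i₁ := q₁' ≫ e₁
  haveI : IsFinite q₁ := inferInstanceAs (IsFinite (q₁' ≫ e₁))
  have hpb₁' : IsPullback pY q₁ q₀ (A.D.map φ) := by
    have := hpY.paste_vert hpS
    simpa [q₁] using this
  let gY₁ : Y ⟶ Y₁' := hpb₁'.lift gY₀ (g ≫ A.π.app i₁) (by
    rw [Category.assoc, ← A.π.naturality φ, hpb₀.w]; simp)
  have hpb₁ : IsPullback gY₁ g q₁ (A.π.app i₁) := by
    refine IsPullback.of_right ?_ (hpb₁'.lift_snd _ _ _) hpb₁'
    rw [hpb₁'.lift_fst, ← A.π.naturality φ]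
    simpa using hpb₀
  haveI : CompactSpace Y₁' := QuasiCompact.compactSpace_of_compactSpace q₁
  haveI : QuasiSeparatedSpace Y₁' := quasiSeparatedSpace_of_quasiSeparated q₁
  haveI : IsLocallyNoetherian (A.D.obj i₁) := (A.ftz i₁).isLocallyNoetherian
  haveI : IsNoetherian (A.D.obj i₁) := {}
  let U : (A.D.obj i₁).Opens := ⟨(Set.range q₁)ᶜ, (q₁.isClosedMap.isClosed_range).isOpen_compl⟩
  obtain ⟨j₂, φ₂, hj₂⟩ := exists_map_preimage_eq_map_preimage A.D (Cone.mk S A.π) A.lim (i := i₁) (U := U) (V := ⊥)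
    (NoetherianSpace.isCompact _) (by simp) (by
      refine le_antisymm (fun s hs => ?_) (by simp)
      obtain ⟨y, rfl⟩ := g.surjective s
      refine absurd ⟨gY₁ y, ?_⟩ hs
      rw [← Scheme.Hom.comp_apply, hpb₁.w, Scheme.Hom.comp_apply]
      rfl)
  -- the base changes become affine
  haveI : IsAffine (MorLib.BC.cone A.D (c := Cone.mk S A.π) q₁ hpb₁).pt := hYaff
  obtain ⟨j₃, hj₃⟩ := Scheme.exists_isAffine_of_isLimit (MorLib.BC.diag A.D q₁) _
    (MorLib.BC.isLimitCone A.D (c := Cone.mk S A.π) q₁ hpb₁ A.lim)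
  obtain ⟨k, a, b, hab⟩ := IsCofiltered.cospan φ₂ j₃.hom
  let m : Over i₁ := Over.mk (b ≫ j₃.hom)
  haveI : IsAffine ((MorLib.BC.diag A.D q₁).obj m) :=
    isAffine_of_isAffineHom ((MorLib.BC.diag A.D q₁).map (Over.homMk b rfl : m ⟶ j₃))
  haveI : IsAffine (pullback q₁ (A.D.map m.hom)) := ‹IsAffine ((MorLib.BC.diag A.D q₁).obj m)›
  haveI : IsFinite (pullback.snd q₁ (A.D.map m.hom)) := MorphismProperty.pullback_snd _ _ inferInstance
  haveI : Surjective (pullback.snd q₁ (A.D.map m.hom)) := ⟨fun x => by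
    have hx : x ∈ Set.range (pullback.snd q₁ (A.D.map m.hom)) := by
      rw [Scheme.Pullback.range_snd]
      by_contra hc
      have : A.D.map a x ∈ A.D.map φ₂ ⁻¹ᵁ U := by
        show A.D.map φ₂ (A.D.map a x) ∈ U
        rw [← Scheme.Hom.comp_apply, ← A.D.map_comp, hab]
        exact hc
      rw [hj₂] at this
      exact this.elim
    exact hx⟩
  haveI : IsLocallyNoetherian (A.D.obj m.left) := (A.ftz m.left).isLocallyNoetherian
  haveI : IsNoetherian (A.D.obj m.left) := {}
  haveI : IsAffine (A.D.obj m.left) := ChevAffine.isAffine_of_finite_surjective (pullback.snd q₁ (A.D.map m.hom))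
  haveI : IsAffineHom (A.π.app m.left) := A.isAffineHom_pr _
  exact isAffine_of_isAffineHom (A.π.app m.left)

end Groth.Agent.LimitsH94.Approx
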