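import Groth.Agent.LimitsH94.Approx.AffineExtend
import Mathlib.AlgebraicGeometry.Limits

/-! An approximation of a scheme from one of an open whose complement lies in an affine open. -/

set_option autoImplicit false
set_option backward.isDefEq.respectTransparency false
set_option backward.isDefEq.respectTransparency.types false
set_option linter.style.haveILetI false
universe u

open CategoryTheory Limits AlgebraicGeometry Opposite TopologicalSpace

namespace Groth.Agent.LimitsH94.Approx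

variable {U V W S T : Scheme.{u}}

/-- The cover by two open subschemes. -/
noncomputable def twoCover (k : U ⟶ S) (j : V ⟶ S) [hk : IsOpenImmersion k] [hj : IsOpenImmersion j]
    (hc : Set.range k ∪ Set.range j = Set.univ) : S.OpenCover where
  I₀ := Bool
  X := fun b => match b with
    | false => U
    | true => V
  f := fun b => match b with
    | false => k
    | true => j
  mem₀ := by
    rw [Scheme.presieve₀_mem_precoverage_iff]
    refine ⟨fun x => ?_, fun b => by cases b <;> assumption⟩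
    rcases (hc.ge (Set.mem_univ x)) with h | h
    · exact ⟨false, h⟩
    · exact ⟨true, h⟩

theorem hom_ext_two (k : U ⟶ S) (j : V ⟶ S) [IsOpenImmersion k] [IsOpenImmersion j]
    (hc : Set.range k ∪ Set.range j = Set.univ) {g g' : S ⟶ T} (h1 : k ≫ g = k ≫ g') (h2 : j ≫ g = j ≫ g') :
    g = g' :=
  (twoCover k j hc).hom_ext _ _ fun b => by cases b <;> assumption

theorem exists_glue_two (k : U ⟶ S) (j : V ⟶ S) [IsOpenImmersion k] [IsOpenImmersion j]
    (hc : Set.range k ∪ Set.range j = Set.univ) (a : U ⟶ T) (b : V ⟶ T)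
    (h : pullback.fst k j ≫ a = pullback.snd k j ≫ b) : ∃ g : S ⟶ T, k ≫ g = a ∧ j ≫ g = b := by
  let fam : ∀ x : (twoCover k j hc).I₀, (twoCover k j hc).X x ⟶ T := fun x => match x with
    | false => a
    | true => b
  have hf : ∀ x y, pullback.fst ((twoCover k j hc).f x) ((twoCover k j hc).f y) ≫ fam x =
      pullback.snd ((twoCover k j hc).f x) ((twoCover k j hc).f y) ≫ fam y := by
    rintro (_ | _) (_ | _)
    · show pullback.fst k k ≫ a = pullback.snd k k ≫ a
      rw [fst_eq_snd_of_mono_eq k]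
    · exact h
    · show pullback.fst j k ≫ b = pullback.snd j k ≫ a
      rw [← cancel_epi (pullbackSymmetry k j).hom, pullbackSymmetry_hom_comp_fst_assoc,
        pullbackSymmetry_hom_comp_snd_assoc, h]
    · show pullback.fst j j ≫ b = pullback.snd j j ≫ b
      rw [fst_eq_snd_of_mono_eq j]
  exact ⟨Scheme.Cover.glueMorphisms _ fam hf, Scheme.Cover.ι_glueMorphisms _ fam hf false,
    Scheme.Cover.ι_glueMorphisms _ fam hf true⟩

section Pushout

variable (g₁ : W ⟶ U) (g₂ : W ⟶ V) [IsOpenImmersion g₁] [IsOpenImmersion g₂]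

local instance : IsOpenImmersion (pushout.inl g₁ g₂) := inferInstanceAs (IsOpenImmersion (colimit.ι _ _))

local instance : IsOpenImmersion (pushout.inr g₁ g₂) := inferInstanceAs (IsOpenImmersion (colimit.ι _ _))

theorem glue_cover : Set.range (pushout.inl g₁ g₂) ∪ Set.range (pushout.inr g₁ g₂) = Set.univ := by
  refine Set.eq_univ_of_forall fun x => ?_
  obtain ⟨i, y, rfl⟩ := Scheme.IsLocallyDirected.ι_jointly_surjective (span g₁ g₂) x
  rcases i with _ | (_ | _)
  · refine Or.inl ⟨g₁ y, ?_⟩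
    rw [← colimit.w (span g₁ g₂) WalkingSpan.Hom.fst]
    rfl
  · exact Or.inl ⟨y, rfl⟩
  · exact Or.inr ⟨y, rfl⟩

theorem glue_eq {a : U} {b : V} (h : pushout.inl g₁ g₂ a = pushout.inr g₁ g₂ b) :
    ∃ v : W, g₁ v = a ∧ g₂ v = b := by
  obtain ⟨k, fi, fj, z, hz, hz'⟩ := (Scheme.IsLocallyDirected.ι_eq_ι_iff (span g₁ g₂)).1 h
  rcases k with _ | (_ | _)
  · obtain rfl : fi = WalkingSpan.Hom.fst := Subsingleton.elim _ _
    obtain rfl : fj = WalkingSpan.Hom.snd := Subsingleton.elim _ _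
    exact ⟨z, hz, hz'⟩
  · exact (nomatch fj)
  · exact (nomatch fi)

variable {W' U' V' : Scheme.{u}} (g₁' : W' ⟶ U') (g₂' : W' ⟶ V') [IsOpenImmersion g₁'] [IsOpenImmersion g₂']
  (w : W' ⟶ W) (a : U' ⟶ U) (b : V' ⟶ V)

/-- Cartesian maps of gluing data give cartesian squares on the glued schemes. -/
theorem glue_squares (h₁ : IsPullback w g₁' g₁ a) (h₂ : IsPullback w g₂' g₂ b)
    (m : pushout g₁' g₂' ⟶ pushout g₁ g₂) (ha : pushout.inl g₁' g₂' ≫ m = a ≫ pushout.inl g₁ g₂)
    (hb : pushout.inr g₁' g₂' ≫ m = b ≫ pushout.inr g₁ g₂) :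
    IsPullback a (pushout.inl g₁' g₂') (pushout.inl g₁ g₂) m ∧
    IsPullback b (pushout.inr g₁' g₂') (pushout.inr g₁ g₂) m := by
  haveI : IsOpenImmersion (pushout.inl g₁' g₂') := inferInstanceAs (IsOpenImmersion (colimit.ι _ _))
  haveI : IsOpenImmersion (pushout.inr g₁' g₂') := inferInstanceAs (IsOpenImmersion (colimit.ι _ _))
  constructor
  · refine isPullback_of_preimage ha.symm fun x hx => ?_
    rcases (glue_cover g₁' g₂').ge (Set.mem_univ x) with h | ⟨v, rfl⟩
    · exact h
    · obtain ⟨u, hu⟩ := hx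
      rw [← Scheme.Hom.comp_apply, hb, Scheme.Hom.comp_apply] at hu
      obtain ⟨z, -, hz⟩ := glue_eq g₁ g₂ hu
      obtain ⟨z', rfl⟩ := mem_range_of_isPullback h₂ ⟨z, hz⟩
      exact ⟨g₁' z', by rw [← Scheme.Hom.comp_apply, pushout.condition]; rfl⟩
  · refine isPullback_of_preimage hb.symm fun x hx => ?_
    rcases (glue_cover g₁' g₂').ge (Set.mem_univ x) with ⟨u, rfl⟩ | h
    · obtain ⟨v, hv⟩ := hx
      rw [← Scheme.Hom.comp_apply, ha, Scheme.Hom.comp_apply] at hv
      obtain ⟨z, hz, -⟩ := glue_eq g₁ g₂ hv.symm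
      obtain ⟨z', rfl⟩ := mem_range_of_isPullback h₁ ⟨z, hz⟩
      exact ⟨g₂' z', by rw [← Scheme.Hom.comp_apply, ← pushout.condition]; rfl⟩
    · exact h

end Pushout

set_option maxHeartbeats 2000000 in
/-- An approximation of an open whose complement lies in an affine open extends. -/
theorem exists_step [QuasiSeparatedSpace S] (j : V ⟶ S) (k : U ⟶ S) [IsOpenImmersion j] [IsOpenImmersion k]
    [IsAffine U] [CompactSpace V] (hc : Set.range k ∪ Set.range j = Set.univ) (A : Appr V) :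
    ∃ B : Appr S, Nonempty (Rel j A B) := by
  haveI : QuasiCompact k := inferInstance
  let w₂ : pullback k j ⟶ V := pullback.snd k j
  let w₁ : pullback k j ⟶ U := pullback.fst k j
  haveI : CompactSpace (pullback k j : Scheme.{u}) := QuasiCompact.compactSpace_of_compactSpace w₂
  obtain ⟨AW, e, ιW, he, hιW, hesq, hesqπ⟩ := exists_restrict A w₂
  obtain ⟨BU, ⟨r⟩⟩ := exists_extend_affine w₁ AW
  haveI := hιW
  let α : BU.I →o A.I := e.comp r.α
  let g₂ : ∀ b, AW.D.obj (op (r.α b)) ⟶ A.D.obj (op (α b)) := fun b => ιW (r.α b)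
  let X : BU.I → Scheme.{u} := fun b => pushout (r.ι b) (g₂ b)
  let inl : ∀ b, BU.D.obj (op b) ⟶ X b := fun b => pushout.inl _ _
  let inr : ∀ b, A.D.obj (op (α b)) ⟶ X b := fun b => pushout.inr _ _
  haveI hinl : ∀ b, IsOpenImmersion (inl b) := fun b => inferInstanceAs (IsOpenImmersion (colimit.ι _ _))
  haveI hinr : ∀ b, IsOpenImmersion (inr b) := fun b => inferInstanceAs (IsOpenImmersion (colimit.ι _ _))
  have hcov : ∀ b, Set.range (inl b) ∪ Set.range (inr b) = Set.univ := fun b => glue_cover _ _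
  have hwtr : ∀ a b (h : a ≤ b), r.ι b ≫ BU.tr h ≫ inl a = g₂ b ≫ A.tr (α.mono h) ≫ inr a := fun a b h => by
    rw [← reassoc_of% (r.w h), ← reassoc_of% ((hesq (r.α a) (r.α b) (r.α.mono h)).w)]
    exact congrArg (_ ≫ ·) pushout.condition
  let tr : ∀ a b, a ≤ b → (X b ⟶ X a) := fun a b h =>
    pushout.desc (BU.tr h ≫ inl a) (A.tr (α.mono h) ≫ inr a) (hwtr a b h)
  have tr1 : ∀ a b h, inl b ≫ tr a b h = BU.tr h ≫ inl a := fun a b h => pushout.inl_desc _ _ _
  have tr2 : ∀ a b h, inr b ≫ tr a b h = A.tr (α.mono h) ≫ inr a := fun a b h => pushout.inr_desc _ _ _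
  have hsq : ∀ a b (h : a ≤ b), IsPullback (BU.tr h) (inl b) (inl a) (tr a b h) ∧
      IsPullback (A.tr (α.mono h)) (inr b) (inr a) (tr a b h) := fun a b h =>
    glue_squares (r.ι a) (g₂ a) (r.ι b) (g₂ b) _ _ _ (r.sq a b h) (hesq _ _ (r.α.mono h)) _
      (tr1 a b h) (tr2 a b h)
  let D : BU.Iᵒᵖ ⥤ Scheme.{u} :=
    { obj := fun b => X b.unop
      map := fun f => tr _ _ (leOfHom f.unop)
      map_id := fun b => hom_ext_two _ _ (hcov b.unop)
        (by rw [tr1, BU.tr_self, Category.id_comp, Category.comp_id])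
        (by rw [tr2, A.tr_self, Category.id_comp, Category.comp_id])
      map_comp := fun {a b c} f g => hom_ext_two _ _ (hcov a.unop)
        (by rw [tr1, reassoc_of% (tr1 b.unop a.unop), tr1, Appr.tr_tr_assoc])
        (by rw [tr2, reassoc_of% (tr2 b.unop a.unop), tr2, Appr.tr_tr_assoc]) }
  -- projections
  have hπ0 : ∀ b, ∃ p : S ⟶ X b, k ≫ p = BU.pr b ≫ inl b ∧ j ≫ p = A.pr (α b) ≫ inr b := fun b => by
    refine exists_glue_two k j hc _ _ ?_
    show w₁ ≫ BU.pr b ≫ _ = w₂ ≫ A.pr (e (r.α b)) ≫ _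
    rw [← reassoc_of% (r.wπ b), ← reassoc_of% ((hesqπ (r.α b)).w)]
    exact congrArg (_ ≫ ·) pushout.condition
  choose p hp1 hp2 using hπ0
  have hpre : ∀ b, IsPullback (BU.pr b) k (inl b) (p b) ∧ IsPullback (A.pr (α b)) j (inr b) (p b) := fun b => by
    constructor
    · refine isPullback_of_preimage (hp1 b).symm fun x hx => ?_
      rcases hc.ge (Set.mem_univ x) with h | ⟨v, rfl⟩
      · exact h
      · obtain ⟨u, hu⟩ := hx
        rw [← Scheme.Hom.comp_apply, hp2, Scheme.Hom.comp_apply] at hu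
        obtain ⟨z, -, hz⟩ := glue_eq _ _ hu
        obtain ⟨z', rfl⟩ := mem_range_of_isPullback (hesqπ (r.α b)) ⟨z, hz⟩
        exact ⟨w₁ z', by rw [← Scheme.Hom.comp_apply, pullback.condition]; rfl⟩
    · refine isPullback_of_preimage (hp2 b).symm fun x hx => ?_
      rcases hc.ge (Set.mem_univ x) with ⟨u, rfl⟩ | h
      · obtain ⟨v, hv⟩ := hx
        rw [← Scheme.Hom.comp_apply, hp1, Scheme.Hom.comp_apply] at hv
        obtain ⟨z, hz, -⟩ := glue_eq _ _ hv.symm
        obtain ⟨z', rfl⟩ := mem_range_of_isPullback (r.sqπ b) ⟨z, hz⟩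
        exact ⟨w₂ z', by rw [← Scheme.Hom.comp_apply, ← pullback.condition]; rfl⟩
      · exact h
  have hpw : ∀ a b h, p b ≫ tr a b h = p a := fun a b h => hom_ext_two k j hc
    (by rw [reassoc_of% (hp1 b), tr1, hp1, Appr.pr_tr_assoc])
    (by rw [reassoc_of% (hp2 b), tr2, hp2, Appr.pr_tr_assoc])
  have hα : ∀ a, ∃ b, a ≤ α b := fun a => by
    obtain ⟨c, hc'⟩ := he a
    obtain ⟨b, hb⟩ := r.cof c
    exact ⟨b, hc'.trans (e.mono hb)⟩
  -- the projections are jointly monic
  have huniq : ∀ {T : Scheme.{u}} {g g' : T ⟶ S}, (∀ b, g ≫ p b = g' ≫ p b) → g = g' := by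
    intro T g g' h
    have hg' : ∀ x, g' x ∈ Set.range k ↔ g x ∈ Set.range k := fun x => by
      have b := Classical.arbitrary BU.I
      have hb : p b (g x) = p b (g' x) := by rw [← Scheme.Hom.comp_apply, h b]; rfl
      constructor <;> rintro ⟨u, hu⟩
      · exact mem_range_of_isPullback (hpre b).1
          ⟨BU.pr b u, by rw [hb, ← hu, ← Scheme.Hom.comp_apply, ← hp1]; rfl⟩
      · exact mem_range_of_isPullback (hpre b).1
          ⟨BU.pr b u, by rw [← hb, ← hu, ← Scheme.Hom.comp_apply, ← hp1]; rfl⟩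
    have hj' : ∀ x, g x ∈ Set.range j → g' x ∈ Set.range j := fun x => by
      rintro ⟨u, hu⟩
      have b := Classical.arbitrary BU.I
      have hb : p b (g x) = p b (g' x) := by rw [← Scheme.Hom.comp_apply, h b]; rfl
      exact mem_range_of_isPullback (hpre b).2
        ⟨A.pr (α b) u, by rw [← hb, ← hu, ← Scheme.Hom.comp_apply, ← hp2]; rfl⟩
    let T₁ : T.Opens := g ⁻¹ᵁ k.opensRange
    let T₂ : T.Opens := g ⁻¹ᵁ j.opensRange
    refine hom_ext_two T₁.ι T₂.ι ?_ ?_ ?_
    · rw [Scheme.Opens.range_ι, Scheme.Opens.range_ι]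
      exact Set.eq_univ_of_forall fun x => hc.ge (Set.mem_univ (g x))
    · have h1 : Set.range (T₁.ι ≫ g) ⊆ Set.range k := by rintro _ ⟨x, rfl⟩; exact x.2
      have h1' : Set.range (T₁.ι ≫ g') ⊆ Set.range k := by rintro _ ⟨x, rfl⟩; exact (hg' x.1).2 x.2
      rw [← IsOpenImmersion.lift_fac k _ h1, ← IsOpenImmersion.lift_fac k _ h1']
      congr 1
      refine BU.hom_ext fun b => ?_
      rw [← cancel_mono (inl b), Category.assoc, Category.assoc, ← hp1, IsOpenImmersion.lift_fac_assoc,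
        IsOpenImmersion.lift_fac_assoc, Category.assoc, Category.assoc, h]
    · have h1 : Set.range (T₂.ι ≫ g) ⊆ Set.range j := by rintro _ ⟨x, rfl⟩; exact x.2
      have h1' : Set.range (T₂.ι ≫ g') ⊆ Set.range j := by rintro _ ⟨x, rfl⟩; exact hj' x.1 x.2
      rw [← IsOpenImmersion.lift_fac j _ h1, ← IsOpenImmersion.lift_fac j _ h1']
      congr 1
      refine A.hom_ext_above α hα fun b => ?_
      rw [← cancel_mono (inr b), Category.assoc, Category.assoc, ← hp2, IsOpenImmersion.lift_fac_assoc,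
        IsOpenImmersion.lift_fac_assoc, Category.assoc, Category.assoc, h]
  have hlift : ∀ s : Cone D, ∃ g : s.pt ⟶ S, ∀ b, g ≫ p b = s.π.app (op b) := by
    intro s
    let t : ∀ b, s.pt ⟶ X b := fun b => s.π.app (op b)
    have ht : ∀ a b h, t b ≫ tr a b h = t a := fun a b h => s.w (homOfLE h).op
    have b₀ := Classical.arbitrary BU.I
    let T₁ : s.pt.Opens := t b₀ ⁻¹ᵁ (inl b₀).opensRange
    let T₂ : s.pt.Opens := t b₀ ⁻¹ᵁ (inr b₀).opensRange
    have r1 : ∀ b x, t b₀ x ∈ Set.range (inl b₀) → t b x ∈ Set.range (inl b) := fun b x hx => by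
      obtain ⟨c, h1, h2⟩ := exists_ge_ge b₀ b
      obtain ⟨u, hu⟩ : t c x ∈ Set.range (inl c) := mem_range_of_isPullback (hsq b₀ c h1).1
        (by rwa [← Scheme.Hom.comp_apply, ht])
      exact ⟨BU.tr h2 u, by rw [← Scheme.Hom.comp_apply, ← tr1 _ _ h2, Scheme.Hom.comp_apply, hu, ← Scheme.Hom.comp_apply, ht]⟩
    have r2 : ∀ b x, t b₀ x ∈ Set.range (inr b₀) → t b x ∈ Set.range (inr b) := fun b x hx => by
      obtain ⟨c, h1, h2⟩ := exists_ge_ge b₀ b
      obtain ⟨u, hu⟩ : t c x ∈ Set.range (inr c) := mem_range_of_isPullback (hsq b₀ c h1).2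
        (by rwa [← Scheme.Hom.comp_apply, ht])
      exact ⟨A.tr (α.mono h2) u,
        by rw [← Scheme.Hom.comp_apply, ← tr2 _ _ h2, Scheme.Hom.comp_apply, hu, ← Scheme.Hom.comp_apply, ht]⟩
    have s1 : ∀ b, Set.range (T₁.ι ≫ t b) ⊆ Set.range (inl b) := by rintro b _ ⟨x, rfl⟩; exact r1 b x.1 x.2
    have s2 : ∀ b, Set.range (T₂.ι ≫ t b) ⊆ Set.range (inr b) := by rintro b _ ⟨x, rfl⟩; exact r2 b x.1 x.2
    obtain ⟨f₁, hf₁⟩ := BU.exists_lift (fun b => IsOpenImmersion.lift (inl b) _ (s1 b)) fun a b h => by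
      rw [← cancel_mono (inl a), Category.assoc, ← tr1 a b h, IsOpenImmersion.lift_fac_assoc,
        IsOpenImmersion.lift_fac, Category.assoc, ht]
    obtain ⟨f₂, hf₂⟩ := A.exists_lift_above α hα (fun b => IsOpenImmersion.lift (inr b) _ (s2 b)) fun a b h => by
      rw [← cancel_mono (inr a), Category.assoc, ← tr2 a b h, IsOpenImmersion.lift_fac_assoc,
        IsOpenImmersion.lift_fac, Category.assoc, ht]
    have e1 : ∀ b, f₁ ≫ k ≫ p b = T₁.ι ≫ t b := fun b => by
      rw [hp1, reassoc_of% (hf₁ b), IsOpenImmersion.lift_fac]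
    have e2 : ∀ b, f₂ ≫ j ≫ p b = T₂.ι ≫ t b := fun b => by
      rw [hp2, reassoc_of% (hf₂ b), IsOpenImmersion.lift_fac]
    obtain ⟨g, hgU, hgV⟩ := exists_glue_two T₁.ι T₂.ι (by
      rw [Scheme.Opens.range_ι, Scheme.Opens.range_ι]
      exact Set.eq_univ_of_forall fun x => (hcov b₀).ge (Set.mem_univ (t b₀ x))) (f₁ ≫ k) (f₂ ≫ j)
      (huniq fun b => by simp only [Category.assoc, e1, e2, pullback.condition_assoc])
    refine ⟨g, fun b => hom_ext_two T₁.ι T₂.ι (by
      rw [Scheme.Opens.range_ι, Scheme.Opens.range_ι]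
      exact Set.eq_univ_of_forall fun x => (hcov b₀).ge (Set.mem_univ (t b₀ x))) ?_ ?_⟩
    · rw [reassoc_of% hgU, e1]
    · rw [reassoc_of% hgV, e2]
  choose lift hliftπ using hlift
  have haffD : ∀ a b h, IsAffineHom (tr a b h) := fun a b h => by
    refine IsZariskiLocalAtTarget.of_openCover (twoCover (inl a) (inr a) (hcov a)) fun i => ?_
    cases i
    · refine (MorphismProperty.arrow_mk_iso_iff @IsAffineHom (?_ : _ ≅ Arrow.mk (BU.tr h))).2 inferInstance
      exact Arrow.isoMk ((hsq a b h).1.flip.isoPullback.symm) (Iso.refl _) (by simp [Scheme.Cover.pullbackHom]; rfl)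
    · refine (MorphismProperty.arrow_mk_iso_iff @IsAffineHom (?_ : _ ≅ Arrow.mk (A.tr (α.mono h)))).2 inferInstance
      exact Arrow.isoMk ((hsq a b h).2.flip.isoPullback.symm) (Iso.refl _) (by simp [Scheme.Cover.pullbackHom]; rfl)
  let B : Appr S :=
    { I := BU.I
      D := D
      aff := fun a b f => haffD _ _ _
      ftz := fun b => by
        refine ⟨⟨?_⟩, ?_⟩
        · rw [← hcov b.unop]
          exact (isCompact_range (inl b.unop).continuous).union (isCompact_range (inr b.unop).continuous)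
        · refine IsZariskiLocalAtSource.of_openCover (twoCover (inl b.unop) (inr b.unop) (hcov b.unop)) fun i => ?_
          cases i
          · rw [specULiftZIsTerminal.hom_ext (_ ≫ _) (Limits.IsTerminal.from specULiftZIsTerminal _)]
            exact (BU.ftz (op b.unop)).2
          · rw [specULiftZIsTerminal.hom_ext (_ ≫ _) (Limits.IsTerminal.from specULiftZIsTerminal _)]
            exact (A.ftz (op (α b.unop))).2
      π :=
        { app := fun b => p b.unop
          naturality := fun a b f => (Category.id_comp _).trans (hpw _ _ _).symm }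
      lim :=
        { lift := lift
          fac := fun s b => hliftπ s b.unop
          uniq := fun s m hm => huniq fun b => (hm (op b)).trans (hliftπ s b).symm } }
  exact ⟨B, ⟨
    { α := α
      cof := hα
      ι := inr
      isOpen := hinr
      sq := fun a b h => (hsq a b h).2
      sqπ := fun b => (hpre b).2 }⟩⟩

end Groth.Agent.LimitsH94.Approx
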