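import Groth.Agent.LimitsH94.Approx.Eventually

/-! An immersion into a scheme of finite presentation over an arbitrary base. -/

set_option autoImplicit false
set_option backward.isDefEq.respectTransparency false
set_option backward.isDefEq.respectTransparency.types false
set_option linter.style.haveILetI false
universe u

open CategoryTheory Limits AlgebraicGeometry Opposite TopologicalSpace
open Groth.Agent.LimitsH94.LM

namespace Groth.Agent.LimitsH94.Approx

theorem exists_immersion_aux {I : Type u} [SmallCategory I] [IsCofiltered I] {D : I ⥤ Scheme.{u}} {c : Cone D}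
    (hc : IsLimit c) [∀ (i j : I) (a : i ⟶ j), IsAffineHom (D.map a)] (hD : ∀ i, FTZ (D.obj i))
    {S : Scheme.{u}} (f : c.pt ⟶ S) [LocallyOfFiniteType f] [CompactSpace c.pt] :
    ∃ (X' : Scheme.{u}) (f' : X' ⟶ S) (j : c.pt ⟶ X'), LocallyOfFinitePresentation f' ∧ QuasiCompact f' ∧
      QuasiSeparated f' ∧ IsImmersion j ∧ j ≫ f' = f := by
  classical
  haveI : ∀ {i j : I} (a : i ⟶ j), IsAffineHom (D.map a) := fun a => inferInstance
  haveI : ∀ i, CompactSpace (D.obj i) := fun i => (hD i).1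
  haveI : ∀ i, QuasiSeparatedSpace (D.obj i) := fun i => (hD i).qs
  haveI haff : ∀ i, IsAffineHom (c.π.app i) := fun i => isAffineHom_π_app D c hc i
  have key : ∀ x : c.pt, ∃ (W : S.Opens) (k : I) (V : (D.obj k).Opens),
      IsAffineOpen W ∧ IsAffineOpen V ∧ x ∈ c.π.app k ⁻¹ᵁ V ∧ c.π.app k ⁻¹ᵁ V ≤ f ⁻¹ᵁ W := by
    intro x
    obtain ⟨W, hW, hxW, -⟩ := exists_isAffineOpen_mem_and_subset (x := f x) (U := (⊤ : S.Opens)) trivial
    obtain ⟨V, hV, hxV, hVW⟩ := exists_isAffineOpen_mem_and_subset (x := x) (U := f ⁻¹ᵁ W) hxW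
    obtain ⟨k, V', hV', rfl⟩ := exists_isAffineOpen_preimage_eq D c hc V hV
    exact ⟨W, k, V', hW, hV', hxV, hVW⟩
  choose W k V' hW hV' hxV hle' using key
  let U' : c.pt → c.pt.Opens := fun x => c.π.app (k x) ⁻¹ᵁ V' x
  obtain ⟨T, hT⟩ := CompactSpace.elim_nhds_subcover (fun x => (U' x : Set c.pt))
    fun x => (U' x).isOpen.mem_nhds (hxV x)
  obtain ⟨i₀, hi₀⟩ := IsCofiltered.inf_objs_exists (T.image k)
  let a₀ : ∀ x : T, i₀ ⟶ k x := fun x => (hi₀ (Finset.mem_image_of_mem k x.2)).some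
  let V : T → (D.obj i₀).Opens := fun x => D.map (a₀ x) ⁻¹ᵁ V' x
  have hV : ∀ x, IsAffineOpen (V x) := fun x => (hV' x).preimage _
  have eV : ∀ x : T, c.π.app i₀ ⁻¹ᵁ V x = c.π.app (k x) ⁻¹ᵁ V' x := fun x => by
    show c.π.app i₀ ⁻¹ᵁ (D.map (a₀ x) ⁻¹ᵁ V' x) = _
    rw [← Scheme.Hom.comp_preimage, c.w]
  have hle : ∀ x : T, c.π.app i₀ ⁻¹ᵁ V x ≤ f ⁻¹ᵁ W x := fun x => (eV x).le.trans (hle' x)
  have gens : ∀ x : T, ∃ s : Finset (SecLim c (V x)),
      Subring.closure (Set.range (f.appLE (W x) _ (hle x)) ∪ (s : Set (SecLim c (V x)))) = ⊤ := fun x => by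
    have hft := f.finiteType_appLE (hW x) ((hV x).preimage (c.π.app i₀)) (hle x)
    letI := (f.appLE (W x) _ (hle x)).hom.toAlgebra
    obtain ⟨s, hs⟩ : (⊤ : Subalgebra Γ(S, W x) (SecLim c (V x))).FG := hft.out
    refine ⟨s, top_le_iff.1 fun y _ => ?_⟩
    have hy : y ∈ Algebra.adjoin Γ(S, W x) (s : Set (SecLim c (V x))) := by rw [hs]; trivial
    refine Algebra.adjoin_induction (fun z hz => Subring.subset_closure (Or.inr hz))
      (fun r => Subring.subset_closure (Or.inl ⟨r, rfl⟩))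
      (fun _ _ _ _ => Subring.add_mem _) (fun _ _ _ _ => Subring.mul_mem _) hy
  choose s hs using gens
  have stage : ∀ x, ∀ a : SecLim c (V x), ∃ (j : Over i₀) (y : Sec (V x) j), g c (V x) j y = a :=
    fun x => (isColim hc (hV x)).surj
  choose st y hy using stage
  obtain ⟨l, hl⟩ := exists_le_all (Finset.univ.sigma s) fun p => st p.1 p.2
  let i : I := l.left
  haveI : IsAffineHom (c.π.app i) := haff i
  let ti := Limits.IsTerminal.from specULiftZIsTerminal (D.obj i)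
  let tS := Limits.IsTerminal.from specULiftZIsTerminal S
  haveI : LocallyOfFinitePresentation ti := isLFP_toTerminal (hD i)
  haveI : QuasiCompact ti := AlgebraicGeometry.quasiCompact_of_compactSpace _
  haveI : QuasiSeparated ti := inferInstance
  haveI : LocallyOfFinitePresentation (pullback.snd ti tS) := MorphismProperty.pullback_snd _ _ inferInstance
  haveI : QuasiCompact (pullback.snd ti tS) := MorphismProperty.pullback_snd _ _ inferInstance
  haveI : QuasiSeparated (pullback.snd ti tS) := MorphismProperty.pullback_snd _ _ inferInstance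
  let h : c.pt ⟶ pullback ti tS := pullback.lift (c.π.app i) f (specULiftZIsTerminal.hom_ext _ _)
  have h₁ : h ≫ pullback.fst ti tS = c.π.app i := pullback.lift_fst _ _ _
  have h₂ : h ≫ pullback.snd ti tS = f := pullback.lift_snd _ _ _
  refine ⟨pullback ti tS, pullback.snd ti tS, h, inferInstance, inferInstance, inferInstance, ?_, h₂⟩
  -- the affine pieces
  let Vl : ∀ x : T, (D.obj i).Opens := fun x => D.map l.hom ⁻¹ᵁ V x
  let O : T → (pullback ti tS).Opens := fun x =>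
    pullback.fst ti tS ⁻¹ᵁ Vl x ⊓ pullback.snd ti tS ⁻¹ᵁ W x
  have hO : ∀ x, IsAffineOpen (O x) := fun x => by
    haveI : IsAffine (Vl x : Scheme.{u}) := (hV x).preimage (D.map l.hom)
    haveI : IsAffine (W x : Scheme.{u}) := hW x
    let m : pullback ((Vl x).ι ≫ ti) ((W x).ι ≫ tS) ⟶ pullback ti tS :=
      pullback.map _ _ _ _ (Vl x).ι (W x).ι (𝟙 _) (Category.comp_id _) (Category.comp_id _)
    haveI : IsOpenImmersion m := inferInstance
    have : O x = m.opensRange := by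
      ext1
      show _ = Set.range m
      rw [Scheme.Pullback.range_map, Scheme.Opens.range_ι, Scheme.Opens.range_ι]
      rfl
    rw [this]
    exact isAffineOpen_opensRange m
  have hhO : ∀ x, h ⁻¹ᵁ O x = c.π.app i₀ ⁻¹ᵁ V x := fun x => by
    show h ⁻¹ᵁ (pullback.fst ti tS ⁻¹ᵁ Vl x ⊓ pullback.snd ti tS ⁻¹ᵁ W x) = _
    have a1 : h ⁻¹ᵁ (pullback.fst ti tS ⁻¹ᵁ Vl x) = c.π.app i₀ ⁻¹ᵁ V x := by
      rw [← Scheme.Hom.comp_preimage, h₁]
      show c.π.app i ⁻¹ᵁ (D.map l.hom ⁻¹ᵁ V x) = _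
      rw [← Scheme.Hom.comp_preimage, c.w]
    have a2 : h ⁻¹ᵁ (pullback.snd ti tS ⁻¹ᵁ W x) = f ⁻¹ᵁ W x := by
      rw [← Scheme.Hom.comp_preimage, h₂]
    rw [Scheme.Hom.preimage_inf, a1, a2]
    exact inf_eq_left.2 (hle x)
  have hsurj : ∀ x, Function.Surjective (h.appLE (O x) (c.π.app i₀ ⁻¹ᵁ V x) (hhO x).ge) := by
    intro x a
    let φ := (h.appLE (O x) (c.π.app i₀ ⁻¹ᵁ V x) (hhO x).ge).hom
    have e1 : O x ≤ pullback.fst ti tS ⁻¹ᵁ Vl x := inf_le_left
    have e2 : O x ≤ pullback.snd ti tS ⁻¹ᵁ W x := inf_le_right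
    have ha : a ∈ Subring.closure (Set.range (f.appLE (W x) _ (hle x)) ∪ (s x : Set (SecLim c (V x)))) := by
      rw [hs]; trivial
    have : Subring.closure (Set.range (f.appLE (W x) _ (hle x)) ∪ (s x : Set (SecLim c (V x)))) ≤ φ.range := by
      refine Subring.closure_le.2 ?_
      rintro b (⟨r, rfl⟩ | hb)
      · refine ⟨(pullback.snd ti tS).appLE (W x) (O x) e2 r, ?_⟩
        show h.appLE _ _ _ ((pullback.snd ti tS).appLE (W x) (O x) e2 r) = _
        rw [← ConcreteCategory.comp_apply, Scheme.Hom.appLE_comp_appLE]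
        simp only [h₂]
      · obtain ⟨p⟩ := hl ⟨x, b⟩ (Finset.mem_sigma.2 ⟨Finset.mem_univ _, hb⟩)
        let T₂ := tr c (V x) p
        have hb' : g c (V x) l (T₂.1 (y x b)) = b := (AlgHom.congr_fun T₂.2 (y x b)).trans (hy x b)
        refine ⟨(pullback.fst ti tS).appLE (Vl x) (O x) e1 (T₂.1 (y x b)), Eq.trans ?_ hb'⟩
        show h.appLE _ _ _ ((pullback.fst ti tS).appLE (Vl x) (O x) e1 (T₂.1 (y x b))) = _
        rw [← ConcreteCategory.comp_apply, Scheme.Hom.appLE_comp_appLE]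
        simp only [h₁]
        rfl
    exact this ha
  -- a closed immersion into their union
  let O' : (pullback ti tS).Opens := ⨆ x, O x
  have hr : Set.range h ⊆ Set.range O'.ι := by
    rw [Scheme.Opens.range_ι]
    rintro _ ⟨z, rfl⟩
    obtain ⟨x, hx, hz⟩ := Set.mem_iUnion₂.1 (hT.ge (Set.mem_univ z))
    refine Opens.mem_iSup.2 ⟨⟨x, hx⟩, ?_⟩
    show z ∈ h ⁻¹ᵁ O ⟨x, hx⟩
    rw [hhO, eV]
    exact hz
  let h' := IsOpenImmersion.lift O'.ι h hr
  have hh' : h' ≫ O'.ι = h := IsOpenImmersion.lift_fac _ _ _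
  haveI : IsClosedImmersion h' := by
    let Wi : T → (O' : Scheme.{u}).affineOpens := fun x =>
      ⟨O'.ι ⁻¹ᵁ O x, (hO x).preimage_of_isOpenImmersion O'.ι (by
        rw [Scheme.Opens.opensRange_ι]; exact le_iSup O x)⟩
    have e : ∀ x, h' ⁻¹ᵁ (Wi x).1 = c.π.app i₀ ⁻¹ᵁ V x := fun x => by
      show h' ⁻¹ᵁ (O'.ι ⁻¹ᵁ O x) = _
      rw [← Scheme.Hom.comp_preimage, hh', hhO]
    refine (HasAffineProperty.iff_of_iSup_eq_top (P := @IsClosedImmersion) Wi ?_).2 fun x => ⟨?_, ?_⟩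
    · refine top_le_iff.1 fun z _ => ?_
      obtain ⟨x, hz⟩ := Opens.mem_iSup.1 (show O'.ι z ∈ O' from z.2)
      exact Opens.mem_iSup.2 ⟨x, hz⟩
    · show IsAffineOpen (h' ⁻¹ᵁ (Wi x).1)
      rw [e]
      exact (hV x).preimage _
    · refine surjective_restrict_appTop _ _ fun a => ?_
      obtain ⟨b, hb⟩ := hsurj x (c.pt.presheaf.map (eqToHom (e x).symm).op a)
      refine ⟨O'.ι.app (O x) b, (ConcreteCategory.bijective_of_isIso (c.pt.presheaf.map (eqToHom (e x).symm).op)).1 ?_⟩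
      rw [← hb, ← ConcreteCategory.comp_apply, ← ConcreteCategory.comp_apply, Scheme.Hom.app_eq_appLE,
        Scheme.Hom.app_eq_appLE, Scheme.Hom.appLE_map, Scheme.Hom.appLE_comp_appLE]
      simp only [hh']
  rw [← hh']
  infer_instance

/-- A scheme locally of finite type embeds into one of finite presentation. -/
theorem exists_immersion {X S : Scheme.{u}} (f : X ⟶ S) [LocallyOfFiniteType f]
    [CompactSpace X] [QuasiSeparatedSpace X] :
    ∃ (X' : Scheme.{u}) (f' : X' ⟶ S) (j : X ⟶ X'), LocallyOfFinitePresentation f' ∧ QuasiCompact f' ∧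
      QuasiSeparated f' ∧ IsImmersion j ∧ j ≫ f' = f := by
  obtain ⟨A⟩ := exists_appr X
  haveI : CompactSpace (Cone.mk X A.π).pt := inferInstanceAs (CompactSpace X)
  exact exists_immersion_aux (c := Cone.mk X A.π) A.lim A.ftz f

end Groth.Agent.LimitsH94.Approx
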