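import Groth.Agent.LimitsH94.Approx.Closed
import Groth.Agent.LimitsH94.Approx.Arrow
import Groth.Agent.S9200

/-! An integral scheme over a quasi-compact quasi-separated base is a limit of finite ones of finite presentation. -/

set_option autoImplicit false
set_option backward.isDefEq.respectTransparency false
set_option backward.isDefEq.respectTransparency.types false
set_option linter.style.haveILetI false
universe u

open CategoryTheory Limits AlgebraicGeometry Opposite TopologicalSpace
open Scheme (IdealSheafData)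
open Groth.Agent.MorLib.IdealFG

namespace Groth.Agent.LimitsH94.Approx

/-- The scheme-theoretic image in an affine `S`-scheme of an integral `S`-scheme is integral. -/
theorem isIntegralHom_imageι_comp {X P S : Scheme.{u}} (i : X ⟶ P) (h : P ⟶ S) [IsAffineHom h]
    [IsIntegralHom (i ≫ h)] [QuasiCompact i] : IsIntegralHom (i.imageι ≫ h) := by
  haveI haff : IsAffineHom (i.imageι ≫ h) := inferInstance
  refine ⟨fun U hU => ?_⟩
  haveI : IsIntegralHom (i.toImage ≫ i.imageι ≫ h) := by
    rw [← Category.assoc, Scheme.Hom.toImage_imageι]; infer_instance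
  have e := (i.toImage ≫ i.imageι ≫ h).isIntegral_app U hU
  rw [Scheme.Hom.comp_app, CommRingCat.hom_comp] at e
  refine RingHom.IsIntegral.tower_bot _ _ ?_ e
  exact i.toImage_app_injective (U := ⟨h ⁻¹ᵁ U, hU.preimage h⟩)

variable {X S : Scheme.{u}} {f : X ⟶ S} {J : Type u} [Preorder J]

/-- A stage together with a finitely presented closed subscheme finite over the base. -/
structure IntIdx (D : Jᵒᵖ ⥤ Over S) (π : (Functor.const Jᵒᵖ).obj (Over.mk f) ⟶ D) : Type u where
  idx : J
  ideal : (D.obj (op idx)).left.IdealSheafData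
  le_ker : ideal ≤ (π.app (op idx)).left.ker
  fg : IsFG ideal
  fin : IsFinite (ideal.subschemeι ≫ (D.obj (op idx)).hom)

instance (D : Jᵒᵖ ⥤ Over S) (π : (Functor.const Jᵒᵖ).obj (Over.mk f) ⟶ D) : Preorder (IntIdx D π) where
  le a b := ∃ h : a.idx ≤ b.idx, a.ideal ≤ b.ideal.map (D.map (homOfLE h).op).left
  le_refl a := ⟨le_rfl, by
    have e : D.map (homOfLE (le_refl a.idx)).op = 𝟙 _ := by
      rw [Subsingleton.elim (homOfLE (le_refl a.idx)).op (𝟙 _)]; exact D.map_id _
    rw [e, Over.id_left, IdealSheafData.map_id]⟩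
  le_trans a b c := fun ⟨h, e⟩ ⟨h', e'⟩ => ⟨h.trans h', by
    rw [show (homOfLE (h.trans h')).op = (homOfLE h').op ≫ (homOfLE h).op from Subsingleton.elim _ _,
      D.map_comp, Over.comp_left, IdealSheafData.map_comp]
    exact e.trans (IdealSheafData.map_mono _ e')⟩

theorem exists_integral_system (f : X ⟶ S) [IsIntegralHom f] [CompactSpace S] [QuasiSeparatedSpace S] :
    ∃ (J : Type u) (_ : Preorder J) (_ : IsDirected J (fun a b => a ≤ b)) (_ : Nonempty J)
      (D : Jᵒᵖ ⥤ Over S) (π : (Functor.const Jᵒᵖ).obj (Over.mk f) ⟶ D) (_ : IsLimit (Cone.mk (Over.mk f) π)),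
      ∀ k, IsFinite (D.obj k).hom ∧ LocallyOfFinitePresentation (D.obj k).hom := by
  classical
  haveI : CompactSpace X := QuasiCompact.compactSpace_of_compactSpace f
  haveI : QuasiSeparatedSpace X := quasiSeparatedSpace_of_quasiSeparated f
  obtain ⟨J, _, _, _, D, π, hlim, hD, htr, hπ⟩ := exists_relative_limit f
  haveI : IsConnected Jᵒᵖ := IsCofiltered.isConnected _
  let D₀ : Jᵒᵖ ⥤ Scheme.{u} := D ⋙ Over.forget S
  let c₀ : Cone D₀ := (Over.forget S).mapCone (Cone.mk _ π)
  have hc₀ : IsLimit c₀ := isLimitOfPreserves (Over.forget S) hlim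
  haveI : ∀ i, CompactSpace (D₀.obj i) := fun i => by
    haveI := (hD i).2.1
    exact QuasiCompact.compactSpace_of_compactSpace (D.obj i).hom
  haveI : ∀ i, QuasiSeparatedSpace (D₀.obj i) := fun i => by
    haveI := (hD i).2.2
    exact quasiSeparatedSpace_of_quasiSeparated (D.obj i).hom
  obtain ⟨j₁, hj₁⟩ : ∃ j₁ : J, ∀ i, j₁ ≤ i → IsAffineHom (D.obj (op i)).hom := by
    let t : D₀ ⟶ (Functor.const Jᵒᵖ).obj S :=
      { app := fun i => (D.obj i).hom
        naturality := fun i j a => (Over.w (D.map a)).trans (Category.comp_id _).symm }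
    haveI : ∀ (i j : Jᵒᵖ) (a : i ⟶ j), IsAffineHom (D₀.map a) := htr
    obtain ⟨j₀⟩ := IsCofiltered.nonempty (C := Jᵒᵖ)
    haveI : IsAffineHom (c₀.π.app j₀ ≫ t.app j₀) := by
      show IsAffineHom ((π.app j₀).left ≫ (D.obj j₀).hom)
      rw [Over.w (π.app j₀)]
      exact inferInstanceAs (IsAffineHom f)
    obtain ⟨k₀, hk₀⟩ := Groth.Agent.S9200.result S D₀ t c₀ hc₀ j₀
    exact ⟨k₀.unop, fun i h => hk₀ (op i) (homOfLE h).op⟩
  -- finite subschemes at each stage
  have hK : ∀ i, j₁ ≤ i → ∃ a : IntIdx D π, a.idx = i := fun i h => by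
    let p := (π.app (op i)).left
    let q := (D.obj (op i)).hom
    haveI : IsAffineHom q := hj₁ i h
    haveI : LocallyOfFinitePresentation q := (hD (op i)).1
    haveI : CompactSpace (D.obj (op i)).left := inferInstanceAs (CompactSpace (D₀.obj (op i)))
    haveI : QuasiSeparatedSpace (D.obj (op i)).left := inferInstanceAs (QuasiSeparatedSpace (D₀.obj (op i)))
    haveI : IsAffineHom p := hπ (op i)
    haveI : IsIntegralHom (p ≫ q) := by rw [Over.w (π.app (op i))]; exact inferInstanceAs (IsIntegralHom f)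
    haveI := isIntegralHom_imageι_comp p q
    obtain ⟨L, _, _, _, E, σ, hEl, hE, -, hEtr⟩ := exists_closed_system p.imageι q (p.imageι ≫ q) rfl
    haveI : IsConnected Lᵒᵖ := IsCofiltered.isConnected _
    let E₀ : Lᵒᵖ ⥤ Scheme.{u} := E ⋙ Over.forget S
    haveI : ∀ (a b : Lᵒᵖ) (φ : a ⟶ b), IsFinite (E₀.map φ) := fun a b φ => by
      haveI := hEtr a b φ
      exact inferInstanceAs (IsFinite (E.map φ).left)
    have hz : ∀ k, CompactSpace (E₀.obj k) ∧ QuasiSeparatedSpace (E₀.obj k) ∧
        LocallyOfFiniteType (E.obj k).hom := fun k => by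
      obtain ⟨z, hz, hzf, hzp, -, -⟩ := hE k
      exact ⟨QuasiCompact.compactSpace_of_compactSpace z, quasiSeparatedSpace_of_quasiSeparated z,
        hzp ▸ inferInstance⟩
    haveI := fun k => (hz k).1
    haveI := fun k => (hz k).2.1
    haveI := fun k => (hz k).2.2
    obtain ⟨k₀, hk₀⟩ := exists_stage_isFinite (isLimitOfPreserves (Over.forget S) hEl) (fun k => (E.obj k).hom)
      (fun a => Over.w (E.map a)) (p.imageι ≫ q) (fun k => Over.w (σ.app k))
    obtain ⟨z, hz, hzf, hzp, hzker, hzfg⟩ := hE k₀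
    haveI := hk₀ k₀ (𝟙 _)
    refine ⟨⟨i, z.ker, hzker.trans (IdealSheafData.ker_subschemeι _).le, hzfg, ?_⟩, rfl⟩
    haveI : IsFinite (z.toImage ≫ z.ker.subschemeι ≫ q) := by
      rw [← Category.assoc, Scheme.Hom.toImage_imageι, hzp]; infer_instance
    exact (MorphismProperty.cancel_left_of_respectsIso @IsFinite z.toImage _).mp ‹_›
  -- transition maps pull finite subschemes back
  have hdir : ∀ a b : IntIdx D π, ∀ j, a.idx ≤ j → b.idx ≤ j → j₁ ≤ j →
      ∃ c : IntIdx D π, c.idx = j ∧ a ≤ c ∧ b ≤ c := fun a b j ha hb hj => by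
    obtain ⟨⟨j', K, hKle, hKfg, hKfin⟩, rfl⟩ := hK j hj
    let ta := (D.map (homOfLE ha).op).left
    let tb := (D.map (homOfLE hb).op).left
    have hπt : ∀ {k : J} (hk : k ≤ j'), (π.app (op j')).left.ker.map (D.map (homOfLE hk).op).left =
        (π.app (op k)).left.ker := fun {k} hk => by
      rw [IdealSheafData.map_ker, ← Over.comp_left, ← π.naturality (homOfLE hk).op]
      exact congrArg _ (Category.id_comp _)
    have hKa : a.ideal.comap ta ≤ (π.app (op j')).left.ker :=
      IdealSheafData.le_map_iff_comap_le.mp (a.le_ker.trans (hπt ha).ge)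
    have hKb : b.ideal.comap tb ≤ (π.app (op j')).left.ker :=
      IdealSheafData.le_map_iff_comap_le.mp (b.le_ker.trans (hπt hb).ge)
    let K' := K ⊔ a.ideal.comap ta ⊔ b.ideal.comap tb
    haveI := hKfin
    haveI : IsFinite (K'.subschemeι ≫ (D.obj (op j')).hom) := by
      rw [← IdealSheafData.inclusion_subschemeι (show K ≤ K' from le_sup_left.trans le_sup_left), Category.assoc]
      haveI : IsClosedImmersion (IdealSheafData.inclusion (show K ≤ K' from le_sup_left.trans le_sup_left)) :=
        inferInstance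
      infer_instance
    exact ⟨⟨j', K', sup_le (sup_le hKle hKa) hKb, isFG_sup (isFG_sup hKfg (isFG_comap a.fg _)) (isFG_comap b.fg _),
        inferInstance⟩, rfl,
      ⟨ha, IdealSheafData.le_map_iff_comap_le.mpr (le_sup_right.trans le_sup_left)⟩,
      ⟨hb, IdealSheafData.le_map_iff_comap_le.mpr le_sup_right⟩⟩
  haveI : Nonempty (IntIdx D π) := ⟨(hK j₁ le_rfl).choose⟩
  haveI : IsDirected (IntIdx D π) (fun a b => a ≤ b) := ⟨fun a b => by
    obtain ⟨k, h1, h2⟩ := exists_ge_ge a.idx b.idx
    obtain ⟨j, h3, h4⟩ := exists_ge_ge k j₁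
    obtain ⟨c, -, hac, hbc⟩ := hdir a b j (h1.trans h3) (h2.trans h3) h4
    exact ⟨c, hac, hbc⟩⟩
  have hcof : ∀ i : J, ∃ a : IntIdx D π, i ≤ a.idx := fun i => by
    obtain ⟨j, h1, h2⟩ := exists_ge_ge i j₁
    obtain ⟨a, rfl⟩ := hK j h2
    exact ⟨a, h1⟩
  let inc : ∀ {a b : IntIdx D π}, a ≤ b → (b.ideal.subscheme ⟶ a.ideal.subscheme) := fun {a b} h =>
    IdealSheafData.subschemeMap _ _ _ h.choose_spec
  have hinc : ∀ {a b : IntIdx D π} (h : a ≤ b),
      inc h ≫ a.ideal.subschemeι = b.ideal.subschemeι ≫ (D.map (homOfLE h.fst).op).left :=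
    fun h => IdealSheafData.subschemeMap_subschemeι _ _ _ _
  let g : ∀ a : IntIdx D π, X ⟶ a.ideal.subscheme := fun a =>
    IsClosedImmersion.lift a.ideal.subschemeι (π.app (op a.idx)).left (by
      rw [IdealSheafData.ker_subschemeι]; exact a.le_ker)
  have hg : ∀ a, g a ≫ a.ideal.subschemeι = (π.app (op a.idx)).left := fun a => IsClosedImmersion.lift_fac _ _ _
  let E : (IntIdx D π)ᵒᵖ ⥤ Over S :=
    { obj := fun a => Over.mk (a.unop.ideal.subschemeι ≫ (D.obj (op a.unop.idx)).hom)
      map := fun {a b} φ => Over.homMk (inc (leOfHom φ.unop))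
        (show inc (leOfHom φ.unop) ≫ b.unop.ideal.subschemeι ≫ (D.obj (op b.unop.idx)).hom = _ by
          rw [reassoc_of% (hinc (leOfHom φ.unop)), Over.w]; rfl)
      map_id := fun a => Over.OverMorphism.ext (by
        show inc (le_refl a.unop) = 𝟙 _
        rw [← cancel_mono a.unop.ideal.subschemeι, hinc (le_refl a.unop), Category.id_comp,
          Subsingleton.elim (homOfLE (le_refl a.unop).fst).op (𝟙 _), D.map_id, Over.id_left, Category.comp_id])
      map_comp := fun {a b c} φ ψ => Over.OverMorphism.ext (by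
        show inc (leOfHom (φ ≫ ψ).unop) = inc (leOfHom φ.unop) ≫ inc (leOfHom ψ.unop)
        rw [← cancel_mono c.unop.ideal.subschemeι, hinc (leOfHom (φ ≫ ψ).unop), Category.assoc,
          hinc (leOfHom ψ.unop), reassoc_of% (hinc (leOfHom φ.unop)), ← Over.comp_left, ← D.map_comp]
        exact congrArg (fun e => _ ≫ (D.map e).left) (Subsingleton.elim _ _)) }
  let σ : (Functor.const (IntIdx D π)ᵒᵖ).obj (Over.mk f) ⟶ E :=
    { app := fun a => Over.homMk (g a.unop) (show g a.unop ≫ a.unop.ideal.subschemeι ≫ _ = f by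
        rw [reassoc_of% (hg a.unop)]; exact Over.w (π.app _))
      naturality := fun a b φ => Over.OverMorphism.ext (by
        show 𝟙 X ≫ g b.unop = g a.unop ≫ inc (leOfHom φ.unop)
        rw [← cancel_mono b.unop.ideal.subschemeι, Category.id_comp, hg, Category.assoc, hinc (leOfHom φ.unop),
          reassoc_of% (hg a.unop), ← Over.comp_left, ← π.naturality (homOfLE (leOfHom φ.unop).fst).op]
        exact congrArg (fun m => Over.Hom.left m) (Category.id_comp _).symm) }
  have hlift : ∀ s : Cone E, ∃ m : s.pt ⟶ Over.mk f, ∀ a, m ≫ σ.app a = s.π.app a := by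
    intro s
    choose a ha using hcof
    let t : ∀ i : J, ∀ b : IntIdx D π, i ≤ b.idx → (s.pt.left ⟶ (D.obj (op i)).left) := fun i b h =>
      (s.π.app (op b)).left ≫ b.ideal.subschemeι ≫ (D.map (homOfLE h).op).left
    have ht : ∀ (i : J) (b c : IntIdx D π) (hb : i ≤ b.idx) (h : b ≤ c), t i c (hb.trans h.fst) = t i b hb :=
      fun i b c hb h => by
      have e : (s.π.app (op c)).left ≫ inc h = (s.π.app (op b)).left := congrArg Over.Hom.left (s.w (homOfLE h).op)
      show _ ≫ _ ≫ _ = (s.π.app (op b)).left ≫ _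
      rw [← e, Category.assoc, reassoc_of% (hinc h), ← Over.comp_left, ← D.map_comp]
      rfl
    have hconst : ∀ (i : J) (b c : IntIdx D π) (hb : i ≤ b.idx) (hc : i ≤ c.idx), t i b hb = t i c hc :=
      fun i b c hb hc => by
      obtain ⟨d, h1, h2⟩ := exists_ge_ge b c
      rw [← ht i b d hb h1, ← ht i c d hc h2]
    let s₀ : Cone D :=
      { pt := s.pt
        π :=
          { app := fun i => Over.homMk (t i.unop (a i.unop) (ha i.unop)) (by
              show (_ ≫ _ ≫ _) ≫ (D.obj i).hom = s.pt.hom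
              rw [Category.assoc, Category.assoc, Over.w]
              exact Over.w (s.π.app (op (a i.unop))))
            naturality := fun i j φ => Over.OverMorphism.ext (by
              show 𝟙 _ ≫ t j.unop _ _ = t i.unop _ _ ≫ (D.map φ).left
              rw [Category.id_comp, hconst j.unop _ (a i.unop) (ha j.unop) ((leOfHom φ.unop).trans (ha i.unop))]
              show _ ≫ _ ≫ _ = (_ ≫ _ ≫ _) ≫ _
              rw [Category.assoc, Category.assoc, ← Over.comp_left, ← D.map_comp]
              rfl) } }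
    refine ⟨hlim.lift s₀, fun b => Over.OverMorphism.ext ?_⟩
    show (hlim.lift s₀).left ≫ g b.unop = (s.π.app b).left
    rw [← cancel_mono b.unop.ideal.subschemeι, Category.assoc, hg]
    have e := congrArg Over.Hom.left (hlim.fac s₀ (op b.unop.idx))
    refine e.trans ((hconst _ _ b.unop _ le_rfl).trans ?_)
    show _ ≫ _ ≫ _ = _
    rw [Subsingleton.elim (homOfLE (le_refl b.unop.idx)).op (𝟙 _), D.map_id, Over.id_left, Category.comp_id]
  choose lift hliftfac using hlift
  refine ⟨IntIdx D π, inferInstance, inferInstance, inferInstance, E, σ,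
    { lift := lift
      fac := hliftfac
      uniq := fun s m hm => hlim.hom_ext fun i => Over.OverMorphism.ext ?_ }, fun a => ⟨a.unop.fin, ?_⟩⟩
  · obtain ⟨b, hb⟩ := hcof i.unop
    have e : (π.app i).left = g b ≫ b.ideal.subschemeι ≫ (D.map (homOfLE hb).op).left := by
      rw [reassoc_of% (hg b), ← Over.comp_left, ← π.naturality (homOfLE hb).op]
      exact congrArg (fun m => Over.Hom.left m) (Category.id_comp _).symm
    have e' : m.left ≫ g b = (lift s).left ≫ g b :=
      congrArg Over.Hom.left ((hm (op b)).trans (hliftfac s (op b)).symm)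
    show m.left ≫ (π.app i).left = (lift s).left ≫ (π.app i).left
    rw [e, ← Category.assoc, e', Category.assoc]
  · haveI := lfp_subschemeι a.unop.fg
    haveI : LocallyOfFinitePresentation (D.obj (op a.unop.idx)).hom := (hD _).1
    exact inferInstanceAs (LocallyOfFinitePresentation (a.unop.ideal.subschemeι ≫ (D.obj (op a.unop.idx)).hom))

end Groth.Agent.LimitsH94.Approx
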