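import Groth.Agent.LimitsH94.Approx.Glue

/-! Absolute noetherian approximation. -/

set_option autoImplicit false
set_option backward.isDefEq.respectTransparency false
set_option backward.isDefEq.respectTransparency.types false
set_option linter.style.haveILetI false
universe u

open CategoryTheory Limits AlgebraicGeometry Opposite TopologicalSpace

namespace Groth.Agent.LimitsH94.Approx

variable {S V : Scheme.{u}}

/-- A scheme of finite type over the integers is its own approximation. -/
noncomputable def Appr.const (h : FTZ V) : Appr V where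
  I := PUnit
  D := (Functor.const _).obj V
  aff _ _ _ := inferInstanceAs (IsAffineHom (𝟙 V))
  ftz _ := h
  π := 𝟙 _
  lim :=
    { lift := fun s => s.π.app (op PUnit.unit)
      fac := fun s j => by
        obtain ⟨⟨⟩⟩ := j
        exact Category.comp_id _
      uniq := fun s m hm => (Category.comp_id m).symm.trans (hm (op PUnit.unit)) }

theorem exists_of_iso (j : V ⟶ S) [IsIso j] (A : Appr V) : ∃ B : Appr S, Nonempty (Rel j A B) := by
  let B : Appr S :=
    { I := A.I
      D := A.D
      aff := A.aff
      ftz := A.ftz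
      π := (Functor.const _).map (inv j) ≫ A.π
      lim := IsLimit.ofIsoLimit A.lim (Cone.ext (asIso j) fun a => by
        show A.π.app a = j ≫ inv j ≫ A.π.app a
        rw [IsIso.hom_inv_id_assoc]) }
  refine ⟨B, ⟨
    { α := OrderHom.id
      cof := fun a => ⟨a, le_rfl⟩
      ι := fun a => 𝟙 _
      isOpen := fun a => inferInstance
      sq := fun a b h => IsPullback.of_vert_isIso ⟨(Category.comp_id _).trans (Category.id_comp _).symm⟩
      sqπ := fun a => IsPullback.of_vert_isIso ⟨by
        show A.pr a ≫ 𝟙 _ = j ≫ inv j ≫ A.π.app (op a)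
        rw [IsIso.hom_inv_id_assoc, Category.comp_id]⟩ }⟩⟩

/-- Approximation relative to a quasi-compact open. -/
theorem exists_relative [CompactSpace S] [QuasiSeparatedSpace S] (j : V ⟶ S) [IsOpenImmersion j] [CompactSpace V]
    (A : Appr V) : ∃ B : Appr S, Nonempty (Rel j A B) := by
  classical
  obtain ⟨t, htf, ht⟩ := (isCompact_iff_finite_and_eq_biUnion_affineOpens.mp
    (show IsCompact ((⊤ : S.Opens) : Set S) from isCompact_univ))
  suffices H : ∀ (s : Finset S.affineOpens) (V : Scheme.{u}) (j : V ⟶ S) (_ : IsOpenImmersion j)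
      (_ : CompactSpace V), (∀ x : S, x ∈ Set.range j ∨ ∃ U ∈ s, x ∈ U.1) →
      ∀ A : Appr V, ∃ B : Appr S, Nonempty (Rel j A B) by
    refine H htf.toFinset V j inferInstance inferInstance (fun x => Or.inr ?_) A
    obtain ⟨U, hU⟩ := Opens.mem_iSup.1 (ht.le (show x ∈ (⊤ : S.Opens) from trivial))
    obtain ⟨hU, hxU⟩ := Opens.mem_iSup.1 hU
    exact ⟨U, htf.mem_toFinset.2 hU, hxU⟩
  intro s
  induction s using Finset.induction with
  | empty =>
    intro V j _ _ hc A
    haveI : IsIso j := isIso_of_isOpenImmersion_of_opensRange_eq_top _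
      (top_le_iff.1 fun x _ => (hc x).elim id fun ⟨U, hU, _⟩ => absurd hU (Finset.notMem_empty U))
    exact exists_of_iso j A
  | insert U s _ ih =>
    intro V j _ _ hc A
    let S' : S.Opens := U.1 ⊔ j.opensRange
    haveI : CompactSpace (S' : Scheme.{u}) := isCompact_iff_compactSpace.mp
      (show IsCompact ((U.1 : Set S) ∪ Set.range j) from U.2.isCompact.union (isCompact_range j.continuous))
    haveI : QuasiSeparatedSpace (S' : Scheme.{u}) := quasiSeparatedSpace_of_quasiSeparated S'.ι
    have hjr : Set.range j ⊆ Set.range S'.ι := by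
      rw [Scheme.Opens.range_ι]; exact fun x hx => Or.inr hx
    let j' : V ⟶ (S' : Scheme.{u}) := IsOpenImmersion.lift S'.ι j hjr
    have hj' : j' ≫ S'.ι = j := IsOpenImmersion.lift_fac _ _ _
    haveI : IsOpenImmersion (j' ≫ S'.ι) := by rw [hj']; infer_instance
    haveI : IsOpenImmersion j' := IsOpenImmersion.of_comp j' S'.ι
    haveI : IsAffine (U.1 : Scheme.{u}) := U.2
    let k : (U.1 : Scheme.{u}) ⟶ (S' : Scheme.{u}) := S.homOfLE le_sup_left
    obtain ⟨B', ⟨r'⟩⟩ := exists_step j' k (Set.eq_univ_of_forall fun x => by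
      rcases x.2 with h | h
      · exact Or.inl ⟨⟨x.1, h⟩, Subtype.ext (Scheme.homOfLE_apply _ _)⟩
      · obtain ⟨v, hv⟩ := h
        exact Or.inr ⟨v, Subtype.ext (by
          show S'.ι (j' v) = x.1
          rw [← Scheme.Hom.comp_apply, hj', hv])⟩) A
    obtain ⟨B, ⟨r⟩⟩ := ih _ S'.ι inferInstance inferInstance (fun x => by
      rcases hc x with h | ⟨W, hW, hxW⟩
      · exact Or.inl (by rw [Scheme.Opens.range_ι]; exact Or.inr h)
      · rcases Finset.mem_insert.1 hW with rfl | hW
        · exact Or.inl (by rw [Scheme.Opens.range_ι]; exact Or.inl hxW)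
        · exact Or.inr ⟨W, hW, hxW⟩) B'
    have := r'.comp r
    rw [hj'] at this
    exact ⟨B, ⟨this⟩⟩

/-- Every quasi-compact quasi-separated scheme has an approximation. -/
theorem exists_appr (S : Scheme.{u}) [CompactSpace S] [QuasiSeparatedSpace S] : Nonempty (Appr S) := by
  haveI : IsEmpty ((⊥ : S.Opens) : Scheme.{u}) := ⟨fun x => x.2⟩
  haveI : CompactSpace ((⊥ : S.Opens) : Scheme.{u}) := Finite.compactSpace
  obtain ⟨B, -⟩ := exists_relative (S := S) (⊥ : S.Opens).ι
    (Appr.const ⟨inferInstance, inferInstance⟩)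
  exact ⟨B⟩

end Groth.Agent.LimitsH94.Approx
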