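import Groth.Agent.MorLib.ProperFT
import Mathlib.AlgebraicGeometry.ValuativeCriterion
import Mathlib.AlgebraicGeometry.Morphisms.ClosedImmersion
import Mathlib.AlgebraicGeometry.IdealSheaf.Functorial

/-! Universal closedness of a closed subscheme descends to the closed subschemes approximating it. -/

set_option autoImplicit false
set_option linter.style.haveILetI false
set_option backward.isDefEq.respectTransparency.types false
universe u

open AlgebraicGeometry CategoryTheory Limits TopologicalSpace Filter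
open Groth.Agent.MorLib.Ultra
open AlgebraicGeometry.Scheme (IdealSheafData)

namespace Groth.Agent.LimitsH94.Approx

variable {P V : Scheme.{u}}

theorem app_eq_zero_aux {X Y : Scheme.{u}} (g : X ⟶ Y) (O : Y.Opens) (h : O = ⊤) (y : Γ(Y, O))
    (hy : g.app O y = 0) : g.appTop (Y.presheaf.map (eqToHom h.symm).op y) = 0 := by
  subst h
  simp only [eqToHom_refl, op_id, CategoryTheory.Functor.map_id]
  exact hy

/-- A point of an affine open kills the ideal of a subscheme containing it. -/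
theorem pre_topIso_inv_eq_zero {R : Type u} [CommRing R] {A : P.Opens} (hA : IsAffineOpen A) (I : IdealSheafData P)
    (g : Spec (.of R) ⟶ (A : Scheme.{u})) (h : I ≤ (g ≫ A.ι).ker) (x : Γ(P, A)) (hx : x ∈ I.ideal ⟨A, hA⟩) :
    pre g (A.topIso.inv x) = 0 := by
  have h1 : (g ≫ A.ι).app A x = 0 := Scheme.Hom.ideal_ker_le (g ≫ A.ι) ⟨A, hA⟩ (h _ hx)
  rw [Scheme.Hom.comp_app] at h1
  have h2 := app_eq_zero_aux g (A.ι ⁻¹ᵁ A) A.ι_preimage_self (A.ι.app A x) h1
  have e : A.ι.app A ≫ (A : Scheme.{u}).presheaf.map (eqToHom A.ι_preimage_self.symm).op = A.topIso.inv := by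
    simp [Scheme.Opens.topIso_inv, ← Functor.map_comp]
    erw [← Functor.map_comp]
    rfl
  have h3 : g.appTop (A.topIso.inv x) = 0 := by
    rw [← e]; exact h2
  show (g.appTop ≫ (Scheme.ΓSpecIso (.of R)).hom) (A.topIso.inv x) = 0
  rw [ConcreteCategory.comp_apply, h3, map_zero]

/-- A point of an affine open killing the ideal factors through the subscheme. -/
theorem exists_fac_subscheme {R : Type u} [CommRing R] {A : P.Opens} (hA : IsAffineOpen A) (I : IdealSheafData P)
    [IsAffine (A : Scheme.{u})] (φ : Γ((A : Scheme.{u}), ⊤) →+* R)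
    (h : ∀ x ∈ I.ideal ⟨A, hA⟩, φ (A.topIso.inv x) = 0) :
    ∃ a : Spec (.of R) ⟶ I.subscheme, a ≫ I.subschemeι = toPt φ ≫ A.ι := by
  let q : Γ(P, A) ⧸ I.ideal ⟨A, hA⟩ →+* R := Ideal.Quotient.lift _ (φ.comp A.topIso.inv.hom) h
  refine ⟨Spec.map (CommRingCat.ofHom q) ≫ I.subschemeCover.f ⟨A, hA⟩, ?_⟩
  erw [Category.assoc, IdealSheafData.subschemeCover_map_subschemeι, IdealSheafData.glueDataObjι_ι, ← Spec.map_comp_assoc]
  have e : CommRingCat.ofHom (Ideal.Quotient.mk (I.ideal ⟨A, hA⟩)) ≫ CommRingCat.ofHom q =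
      A.topIso.inv ≫ CommRingCat.ofHom φ := rfl
  rw [e, Spec.map_comp, Category.assoc, toPt, Category.assoc]
  congr 1
  rw [← IsAffineOpen.isoSpec_inv_ι]
  show Spec.map A.topIso.inv ≫ (_ ≫ A.ι) = _
  rw [← Category.assoc]
  congr 1
  show Spec.map A.topIso.inv ≫ hA.isoSpec.inv = (A : Scheme.{u}).isoSpec.inv
  have h0 : hA.isoSpec.inv = Spec.map A.topIso.hom ≫ (A : Scheme.{u}).isoSpec.inv := rfl
  rw [h0, ← Spec.map_comp_assoc, Iso.hom_inv_id, Spec.map_id, Category.id_comp]

/-- The valuative existence for a closed subscheme holds for one of the larger ones approximating it. -/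
theorem exists_stage_existence {J : Type u} [Preorder J] [IsDirectedOrder J] [Nonempty J] [IsAffine V]
    [CompactSpace P] (t : P ⟶ V) [LocallyOfFiniteType t] (Km : J → IdealSheafData P) (hmono : Monotone Km)
    (I : IdealSheafData P) (hI : ∀ U, ∀ x ∈ I.ideal U, ∃ j, x ∈ (Km j).ideal U)
    [UniversallyClosed (I.subschemeι ≫ t)] :
    ∃ j, ∀ (R K : Type u) [CommRing R] [IsDomain R] [ValuationRing R] [Field K] [Algebra R K]
      [IsFractionRing R K] (a : Spec (.of K) ⟶ P) (b : Spec (.of R) ⟶ V),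
      Km j ≤ a.ker → a ≫ t = gen R K ≫ b →
      ∃ l : Spec (.of R) ⟶ P, gen R K ≫ l = a ∧ l ≫ t = b := by
  classical
  by_contra hcon
  simp only [not_exists, not_forall] at hcon
  choose R K iR iD iV iK iA iF a b hker hsq hno using hcon
  letI := iR; letI := iD; letI := iV; letI := iK; letI := iA; letI := iF
  let U : Ultrafilter J := Ultrafilter.of atTop
  have hU : (U : Filter J) ≤ atTop := Ultrafilter.of_le _
  have hTrue : ∀ᶠ _ in (U : Filter J), True := Eventually.of_forall fun _ => trivial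
  let Vs : ValuationSubring (Field' U K) := subring U (K := K) R
  let ψ : Γ(V, ⊤) →+* Field' U K := germ hTrue fun j _ => pre (gen (R j) (K j) ≫ b j)
  let ψV : Γ(V, ⊤) →+* Vs := ψ.codRestrict Vs.toSubring fun x =>
    germ_mem R hTrue _ x fun j _ => pre_gen_mem _ _
  let bV : Spec (.of Vs) ⟶ V := toPt ψV
  have hbV : pre (gen Vs (Field' U K) ≫ bV) = ψ := by
    rw [pre_specMap, pre_toPt]; rfl
  -- the points land in one affine open
  have hcov : ∀ w : P, ∃ W : P.affineOpens, w ∈ W.1 := fun w => by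
    obtain ⟨W, hW, hw, -⟩ := exists_isAffineOpen_mem_and_subset (x := w) (U := ⊤) trivial
    exact ⟨⟨W, hW⟩, hw⟩
  choose W hW using hcov
  obtain ⟨F, hF⟩ := isCompact_univ.elim_finite_subcover (fun w => (((W w).1 : P.Opens) : Set P))
    (fun w => (W w).1.2) fun w _ => Set.mem_iUnion.mpr ⟨w, hW w⟩
  choose pt hptF hpt using fun j =>
    Set.mem_iUnion₂.mp (hF (Set.mem_univ (a j (IsLocalRing.closedPoint (K j)))))
  obtain ⟨⟨p, hpF⟩, hp⟩ := (U.map fun j => (⟨pt j, hptF j⟩ : F)).eq_pure_of_finite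
  let A : P.Opens := (W p).1
  haveI : IsAffine (A : Scheme.{u}) := (W p).2
  have hae : ∀ᶠ j in (U : Filter J), ∃ e : Spec (.of (K j)) ⟶ (A : Scheme.{u}), e ≫ A.ι = a j := by
    have : ∀ᶠ j in (U : Filter J), (⟨pt j, hptF j⟩ : F) = ⟨p, hpF⟩ := by
      have h1 : ({⟨p, hpF⟩} : Set F) ∈ U.map fun j => (⟨pt j, hptF j⟩ : F) := by rw [hp]; rfl
      exact h1
    refine this.mono fun j hj => ⟨IsOpenImmersion.lift A.ι (a j) ?_, IsOpenImmersion.lift_fac _ _ _⟩
    rw [Scheme.Opens.range_ι]
    rintro _ ⟨x, rfl⟩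
    rw [Subsingleton.elim x (IsLocalRing.closedPoint (K j))]
    have e := congrArg Subtype.val hj
    simp only at e
    show _ ∈ ((W p).1 : P.Opens)
    rw [← e]
    exact hpt j
  let φ : Γ((A : Scheme.{u}), ⊤) →+* Field' U K := germ hae fun j hj => pre hj.choose
  let aA : Spec (.of (Field' U K)) ⟶ (A : Scheme.{u}) := toPt φ
  have hcomm : (aA ≫ A.ι) ≫ t = gen Vs (Field' U K) ≫ bV := by
    refine pre_injective ?_
    rw [hbV, Category.assoc, pre_comp, pre_toPt]
    refine germ_comp_eq_germ hae hTrue _ _ _ (Eventually.of_forall fun j hj _ => ?_)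
    rw [← pre_comp, ← Category.assoc, hj.choose_spec, hsq j]
  -- the limit point lies in the subscheme
  have hkill : ∀ x ∈ I.ideal (W p), φ (A.topIso.inv x) = 0 := fun x hx => by
    obtain ⟨j₀, hj₀⟩ := hI _ x hx
    refine (germ_eq_mk hae _ _ 0 (((eventually_ge_atTop j₀).filter_mono hU).mono fun j hj he => ?_)).trans (map_zero _)
    refine pre_topIso_inv_eq_zero (W p).2 (Km j₀) he.choose ?_ x hj₀
    rw [he.choose_spec]
    exact (hmono hj).trans (hker j)
  obtain ⟨aI, haI⟩ := exists_fac_subscheme (W p).2 I φ hkill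
  obtain ⟨l₀, hl₀, hl₂⟩ : ∃ l : Spec (.of Vs) ⟶ I.subscheme, gen Vs (Field' U K) ≫ l = aI ∧
      l ≫ I.subschemeι ≫ t = bV := by
    have sq : CommSq aI (gen Vs (Field' U K)) (I.subschemeι ≫ t) bV :=
      ⟨by rw [← Category.assoc, haI]; exact hcomm⟩
    obtain ⟨l, h1, h2⟩ := (existence_of_universallyClosed (I.subschemeι ≫ t)
      { R := Vs, K := Field' U K, i₁ := aI, i₂ := bV, commSq := sq }).exists_lift
    exact ⟨l, h1, h2⟩
  let l := l₀ ≫ I.subschemeι
  have hl₁ : gen Vs (Field' U K) ≫ l = aA ≫ A.ι := by rw [← Category.assoc, hl₀, haI]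
  -- the lift lands in an affine open
  obtain ⟨q, hq⟩ : ∃ q, l (IsLocalRing.closedPoint Vs) ∈ (W q).1 := ⟨_, hW _⟩
  let B : P.Opens := (W q).1
  haveI : IsAffine (B : Scheme.{u}) := (W q).2
  let lB : Spec (.of Vs) ⟶ (B : Scheme.{u}) := IsOpenImmersion.lift B.ι l (by
    rw [Scheme.Opens.range_ι]
    rintro _ ⟨x, rfl⟩
    exact ((IsLocalRing.specializes_closedPoint x).map l.continuous).mem_open B.2 hq)
  have hlB : lB ≫ B.ι = l := IsOpenImmersion.lift_fac _ _ _
  let z : (A : Scheme.{u}) := aA (IsLocalRing.closedPoint (Field' U K))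
  have hzB : A.ι z ∈ B := by
    have e : A.ι z = (gen Vs (Field' U K) ≫ lB ≫ B.ι) (IsLocalRing.closedPoint (Field' U K)) := by
      rw [hlB, hl₁]; rfl
    rw [e, ← Category.assoc, Scheme.Hom.comp_apply]
    exact Subtype.coe_prop _
  obtain ⟨s, hsB, hzs⟩ := (isAffineOpen_top (A : Scheme.{u})).exists_basicOpen_le
    (V := A.ι ⁻¹ᵁ B) ⟨z, hzB⟩ trivial
  let G : (A : Scheme.{u}).Opens := (A : Scheme.{u}).basicOpen s
  haveI : IsAffine (G : Scheme.{u}) := (isAffineOpen_top (A : Scheme.{u})).basicOpen s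
  let ρ : (G : Scheme.{u}) ⟶ (B : Scheme.{u}) := IsOpenImmersion.lift B.ι (G.ι ≫ A.ι) (by
    rw [Scheme.Opens.range_ι]
    rintro _ ⟨x, rfl⟩
    exact hsB x.2)
  have hρ : ρ ≫ B.ι = G.ι ≫ A.ι := IsOpenImmersion.lift_fac _ _ _
  have hφs : φ s ≠ 0 := by
    intro h0
    have h1 : pre aA s = 0 := by rw [pre_toPt]; exact h0
    exact (mem_preimage_basicOpen aA s _).1 hzs (h1 ▸ Ideal.zero_mem _)
  have haeG : ∀ᶠ j in (U : Filter J), ∃ e : Spec (.of (K j)) ⟶ (G : Scheme.{u}), e ≫ G.ι ≫ A.ι = a j := by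
    have hne : ∀ᶠ j in (U : Filter J), ∀ hj : ∃ e, e ≫ A.ι = a j, pre hj.choose s ≠ 0 := by
      by_contra h0
      rw [← Ultrafilter.eventually_not] at h0
      refine hφs ((germ_eq_mk hae _ s 0 (h0.mono fun j hj hj' => ?_)).trans (map_zero _))
      by_contra hne
      exact hj fun _ => hne
    refine (hae.and hne).mono fun j hj => ?_
    refine ⟨IsOpenImmersion.lift G.ι hj.1.choose ?_, by
      rw [← Category.assoc, IsOpenImmersion.lift_fac, hj.1.choose_spec]⟩
    rw [Scheme.Opens.range_ι]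
    rintro _ ⟨x, rfl⟩
    refine (mem_preimage_basicOpen hj.1.choose s x).2 ?_
    rw [((Ideal.eq_bot_or_top x.asIdeal).resolve_right x.isPrime.ne_top), Ideal.mem_bot]
    exact hj.2 hj.1
  let φG : Γ((G : Scheme.{u}), ⊤) →+* Field' U K := germ haeG fun j hj => pre hj.choose
  have hφG : toPt φG ≫ G.ι = aA := by
    refine pre_injective ?_
    rw [pre_comp, pre_toPt, pre_toPt]
    refine germ_comp_eq_germ haeG hae _ _ _ (Eventually.of_forall fun j hj hj' => ?_)
    rw [← pre_comp]
    congr 1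
    rw [← cancel_mono A.ι, Category.assoc, hj.choose_spec, hj'.choose_spec]
  have hχ : φG.comp ρ.appTop.hom = (algebraMap Vs (Field' U K)).comp (pre lB) := by
    have e : toPt φG ≫ ρ = gen Vs (Field' U K) ≫ lB := by
      rw [← cancel_mono B.ι, Category.assoc, hρ, ← Category.assoc, hφG, Category.assoc, hlB, hl₁]
    have := congrArg pre e
    rwa [pre_comp, pre_toPt, pre_specMap] at this
  have hx : ∀ x : Γ((B : Scheme.{u}), ⊤), ∀ᶠ j in (U : Filter J),
      ∀ hj : ∃ e : Spec (.of (K j)) ⟶ (G : Scheme.{u}), e ≫ G.ι ≫ A.ι = a j,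
        pre (hj.choose ≫ ρ) x ∈ (algebraMap (R j) (K j)).range := fun x => by
    have h1 : φG (ρ.appTop x) ∈ Vs := by
      have := RingHom.congr_fun hχ x
      rw [RingHom.comp_apply, RingHom.comp_apply] at this
      exact this ▸ (pre lB x).2
    exact eventually_mem_of_germ_mem R haeG _ _ h1
  have hft : (B.ι ≫ t).appTop.hom.FiniteType :=
    HasRingHomProperty.appTop (P := @LocallyOfFiniteType) (B.ι ≫ t) inferInstance
  letI := (B.ι ≫ t).appTop.hom.toAlgebra
  haveI : Algebra.FiniteType Γ(V, ⊤) Γ((B : Scheme.{u}), ⊤) := hft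
  obtain ⟨gens, hgens⟩ := (inferInstance : Algebra.FiniteType Γ(V, ⊤) Γ((B : Scheme.{u}), ⊤)).out
  obtain ⟨j, hte, htg⟩ := (haeG.and ((eventually_all_finset gens).2 fun x _ => hx x)).exists
  let e : Spec (.of (K j)) ⟶ (B : Scheme.{u}) := hte.choose ≫ ρ
  have he : e ≫ B.ι = a j := by
    show (hte.choose ≫ ρ) ≫ B.ι = a j
    rw [Category.assoc, hρ, hte.choose_spec]
  have hrange : ∀ x, pre e x ∈ (algebraMap (R j) (K j)).range := fun x => by
    have hxm : x ∈ Algebra.adjoin Γ(V, ⊤) (gens : Set Γ((B : Scheme.{u}), ⊤)) := hgens.ge trivial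
    induction hxm using Algebra.adjoin_induction with
    | mem y hy => exact htg y hy hte
    | algebraMap r =>
      show pre e ((B.ι ≫ t).appTop r) ∈ _
      have h2 := RingHom.congr_fun (pre_comp e (B.ι ≫ t)) r
      rw [RingHom.comp_apply] at h2
      rw [← h2, ← Category.assoc, he, hsq j]
      exact pre_gen_mem _ _
    | add y y' _ _ hy hy' => rw [map_add]; exact add_mem hy hy'
    | mul y y' _ _ hy hy' => rw [map_mul]; exact mul_mem hy hy'
  let E : R j ≃+* (algebraMap (R j) (K j)).range :=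
    RingEquiv.ofBijective (algebraMap (R j) (K j)).rangeRestrict
      ⟨fun x y hxy => IsFractionRing.injective (R j) (K j) (congrArg Subtype.val hxy),
        (algebraMap (R j) (K j)).rangeRestrict_surjective⟩
  let χ : Γ((B : Scheme.{u}), ⊤) →+* R j := E.symm.toRingHom.comp ((pre e).codRestrict _ hrange)
  have hχe : (algebraMap (R j) (K j)).comp χ = pre e := RingHom.ext fun x =>
    congrArg Subtype.val (E.apply_symm_apply ⟨pre e x, hrange x⟩)
  have hgl : gen (R j) (K j) ≫ toPt χ = e := pre_injective (by rw [pre_specMap, pre_toPt, hχe])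
  refine hno j (toPt χ ≫ B.ι) ⟨by rw [← Category.assoc, hgl, he], ?_⟩
  refine pre_injective (RingHom.ext fun x => IsFractionRing.injective (R j) (K j) ?_)
  have h1 : gen (R j) (K j) ≫ (toPt χ ≫ B.ι) ≫ t = gen (R j) (K j) ≫ b j := by
    rw [← Category.assoc, ← Category.assoc, hgl, he, hsq j]
  have h2 := congrArg pre h1
  rw [pre_specMap, pre_specMap] at h2
  exact RingHom.congr_fun h2 x

theorem ker_gen {R K : Type u} [CommRing R] [IsDomain R] [Field K] [Algebra R K] [IsFractionRing R K] :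
    (gen R K).ker = ⊥ := by
  rw [Scheme.ker_of_isAffine]
  refine Scheme.IdealSheafData.ext_of_isAffine ?_
  rw [IdealSheafData.ideal_bot]
  refine (Scheme.IdealSheafData.equivOfIsAffine.apply_symm_apply _).trans ?_
  refine (RingHom.injective_iff_ker_eq_bot _).1 fun x y h => ?_
  have hinj : Function.Injective (CommRingCat.ofHom (algebraMap R K)) := IsFractionRing.injective R K
  have h' := congrArg (Scheme.ΓSpecIso (CommRingCat.of K)).hom h
  rw [← ConcreteCategory.comp_apply, ← ConcreteCategory.comp_apply, Scheme.ΓSpecIso_naturality,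
    ConcreteCategory.comp_apply, ConcreteCategory.comp_apply] at h'
  exact (ConcreteCategory.bijective_of_isIso (Scheme.ΓSpecIso (CommRingCat.of R)).hom).1 (hinj h')

/-- A universally closed closed subscheme has a universally closed approximation. -/
theorem exists_stage_universallyClosed {J : Type u} [Preorder J] [IsDirectedOrder J] [Nonempty J] [IsAffine V]
    [CompactSpace P] (t : P ⟶ V) [LocallyOfFiniteType t] (Km : J → IdealSheafData P) (hmono : Monotone Km)
    (I : IdealSheafData P) (hI : ∀ U, ∀ x ∈ I.ideal U, ∃ j, x ∈ (Km j).ideal U)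
    [UniversallyClosed (I.subschemeι ≫ t)] :
    ∃ j, UniversallyClosed ((Km j).subschemeι ≫ t) := by
  obtain ⟨j, hj⟩ := exists_stage_existence t Km hmono I hI
  refine ⟨j, ?_⟩
  haveI : QuasiCompact ((Km j).subschemeι ≫ t) := by
    haveI : QuasiCompact t := quasiCompact_of_compactSpace t
    infer_instance
  refine UniversallyClosed.of_valuativeCriterion _ fun S => ?_
  have hle : Km j ≤ (S.i₁ ≫ (Km j).subschemeι).ker :=
    (IdealSheafData.ker_subschemeι (Km j)).ge.trans (Scheme.Hom.le_ker_comp _ _)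
  obtain ⟨l, hl₁, hl₂⟩ := hj S.R S.K (S.i₁ ≫ (Km j).subschemeι) S.i₂ hle
    (by rw [Category.assoc]; exact S.commSq.w)
  have hlk : (Km j).subschemeι.ker ≤ l.ker := by
    rw [IdealSheafData.ker_subschemeι]
    refine hle.trans ?_
    rw [← hl₁, Scheme.Hom.ker_comp, ker_gen, IdealSheafData.map_bot]
  refine ⟨⟨{ l := IsClosedImmersion.lift (Km j).subschemeι l hlk, fac_left := ?_, fac_right := ?_ }⟩⟩
  · rw [← cancel_mono (Km j).subschemeι, Category.assoc, IsClosedImmersion.lift_fac]
    exact hl₁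
  · rw [← Category.assoc, IsClosedImmersion.lift_fac]
    exact hl₂

end Groth.Agent.LimitsH94.Approx
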