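import Groth.Agent.LimitsH94.Approx.Closed
import Groth.Agent.LimitsH94.Approx.UltraClosed

/-! A proper scheme is a limit of proper schemes of finite presentation. -/

set_option autoImplicit false
set_option backward.isDefEq.respectTransparency false
set_option backward.isDefEq.respectTransparency.types false
set_option linter.style.haveILetI false
universe u

open CategoryTheory Limits AlgebraicGeometry Opposite TopologicalSpace
open Scheme (IdealSheafData)
open Groth.Agent.MorLib.IdealFG

namespace Groth.Agent.LimitsH94.Approx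

theorem universallyClosed_anti {P S : Scheme.{u}} (p : P ⟶ S) {K L : P.IdealSheafData} (h : K ≤ L)
    [UniversallyClosed (K.subschemeι ≫ p)] : UniversallyClosed (L.subschemeι ≫ p) := by
  haveI : IsClosedImmersion (IdealSheafData.inclusion h ≫ K.subschemeι) := by
    rw [IdealSheafData.inclusion_subschemeι]; infer_instance
  haveI := IsClosedImmersion.of_comp (IdealSheafData.inclusion h) K.subschemeι
  rw [← IdealSheafData.inclusion_subschemeι h, Category.assoc]
  infer_instance

theorem isPullback_comap_restrict {P S : Scheme.{u}} (p : P ⟶ S) (V : S.Opens) (K : P.IdealSheafData) :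
    IsPullback ((K.comapIso (p ⁻¹ᵁ V).ι).hom ≫ pullback.snd _ _)
      ((K.comap (p ⁻¹ᵁ V).ι).subschemeι ≫ (p ∣_ V)) (K.subschemeι ≫ p) V.ι := by
  have h1 : IsPullback ((K.comapIso (p ⁻¹ᵁ V).ι).hom ≫ pullback.snd _ _) (K.comap (p ⁻¹ᵁ V).ι).subschemeι
      K.subschemeι (p ⁻¹ᵁ V).ι :=
    IsPullback.of_iso (IsPullback.of_hasPullback (p ⁻¹ᵁ V).ι K.subschemeι).flip (K.comapIso (p ⁻¹ᵁ V).ι).symm
      (Iso.refl _) (Iso.refl _) (Iso.refl _)
      (by simp only [Iso.symm_hom, Iso.refl_hom, Category.comp_id, Iso.inv_hom_id_assoc])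
      (by simp) (by simp) (by simp)
  exact h1.paste_vert (isPullback_morphismRestrict p V).flip

/-- The closed subschemes of finite presentation containing a proper one are eventually proper. -/
theorem exists_stage_isProper {X P S : Scheme.{u}} (i : X ⟶ P) [IsClosedImmersion i] (p : P ⟶ S) [IsSeparated p]
    [LocallyOfFiniteType p] [QuasiCompact p] [CompactSpace S] [QuasiSeparatedSpace S] [UniversallyClosed (i ≫ p)] :
    ∃ K₀ : Sub i.ker, ∀ K : Sub i.ker, K₀ ≤ K → IsProper (K.1.subschemeι ≫ p) := by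
  classical
  haveI : CompactSpace P := QuasiCompact.compactSpace_of_compactSpace p
  haveI : QuasiSeparatedSpace P := quasiSeparatedSpace_of_quasiSeparated p
  obtain ⟨T, hT⟩ := isCompact_univ.elim_finite_subcover (fun W : S.affineOpens => (W.1 : Set S))
    (fun W => W.1.2) fun x _ => by
      obtain ⟨W, hW, hxW, -⟩ := exists_isAffineOpen_mem_and_subset (x := x) (U := (⊤ : S.Opens)) trivial
      exact Set.mem_iUnion.2 ⟨⟨W, hW⟩, hxW⟩
  have hUC : UniversallyClosed (i.ker.subschemeι ≫ p) := by
    have : inv i.toImage ≫ (i ≫ p) = i.ker.subschemeι ≫ p := by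
      rw [IsIso.inv_comp_eq, ← Category.assoc]
      exact congrArg (· ≫ p) i.toImage_imageι.symm
    rw [← this]
    infer_instance
  have key : ∀ W : S.affineOpens, ∃ K : Sub i.ker, UniversallyClosed ((K.1.subschemeι ≫ p) ∣_ W.1) := by
    intro W
    haveI : IsAffine (W.1 : Scheme.{u}) := W.2
    haveI : CompactSpace (p ⁻¹ᵁ W.1 : Scheme.{u}) :=
      isCompact_iff_compactSpace.mp (p.isCompact_preimage W.2.isCompact)
    haveI : UniversallyClosed ((i.ker.comap (p ⁻¹ᵁ W.1).ι).subschemeι ≫ (p ∣_ W.1)) :=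
      MorphismProperty.of_isPullback (isPullback_comap_restrict p W.1 i.ker) hUC
    obtain ⟨K, hK⟩ := exists_stage_universallyClosed (p ∣_ W.1) (fun K : Sub i.ker => K.1.comap (p ⁻¹ᵁ W.1).ι)
      (fun K L h => IdealSheafData.comap_mono _ h) (i.ker.comap (p ⁻¹ᵁ W.1).ι) (fun U x hx => by
        rw [IdealSheafData.ideal_comap_of_isOpenImmersion] at hx
        obtain ⟨K, hK⟩ := exists_sub_mem i.ker _ (Ideal.mem_comap.1 hx)
        exact ⟨K, by rw [IdealSheafData.ideal_comap_of_isOpenImmersion]; exact hK⟩)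
    refine ⟨K, ?_⟩
    let e := (isPullback_morphismRestrict (K.1.subschemeι ≫ p) W.1).flip.isoIsPullback _ _
      (isPullback_comap_restrict p W.1 K.1)
    have : (K.1.subschemeι ≫ p) ∣_ W.1 = e.hom ≫ (K.1.comap (p ⁻¹ᵁ W.1).ι).subschemeι ≫ (p ∣_ W.1) :=
      ((isPullback_morphismRestrict (K.1.subschemeι ≫ p) W.1).flip.isoIsPullback_hom_snd _ _
        (isPullback_comap_restrict p W.1 K.1)).symm
    rw [this]
    infer_instance
  choose K hK using key
  obtain ⟨K₀, hK₀⟩ := Finset.exists_le (T.image K)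
  refine ⟨K₀, fun L hL => ?_⟩
  haveI : UniversallyClosed (L.1.subschemeι ≫ p) := by
    refine IsZariskiLocalAtTarget.of_iSup_eq_top (P := @UniversallyClosed) (fun W : T => W.1.1) ?_ fun W => ?_
    · refine top_le_iff.1 fun x _ => ?_
      obtain ⟨W, hW, hx⟩ := Set.mem_iUnion₂.1 (hT (Set.mem_univ x))
      exact Opens.mem_iSup.2 ⟨⟨W, hW⟩, hx⟩
    · haveI := hK W.1
      have h : (K W.1).1 ≤ L.1 := le_trans (hK₀ _ (Finset.mem_image_of_mem K W.2)) hL
      have e : (L.1.subschemeι ≫ p) = IdealSheafData.inclusion h ≫ (K W.1).1.subschemeι ≫ p := by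
        rw [IdealSheafData.inclusion_subschemeι_assoc]
      haveI : IsClosedImmersion (IdealSheafData.inclusion h ≫ (K W.1).1.subschemeι) := by
        rw [IdealSheafData.inclusion_subschemeι]; infer_instance
      haveI := IsClosedImmersion.of_comp (IdealSheafData.inclusion h) (K W.1).1.subschemeι
      rw [e, morphismRestrict_comp]
      haveI : IsClosedImmersion (IdealSheafData.inclusion h ∣_ ((K W.1).1.subschemeι ≫ p) ⁻¹ᵁ W.1.1) :=
        IsZariskiLocalAtTarget.restrict (P := @IsClosedImmersion) inferInstance _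
      infer_instance
  exact ⟨⟩

/-- Proper schemes are limits of proper schemes of finite presentation. -/
theorem exists_proper_system {X S : Scheme.{u}} (f : X ⟶ S) [IsProper f] [CompactSpace S] [QuasiSeparatedSpace S] :
    ∃ (J : Type u) (_ : Preorder J) (_ : IsDirected J (fun a b => a ≤ b)) (_ : Nonempty J)
      (D : Jᵒᵖ ⥤ Over S) (π : (Functor.const Jᵒᵖ).obj (Over.mk f) ⟶ D) (_ : IsLimit (Cone.mk (Over.mk f) π)),
      (∀ k, IsProper (D.obj k).hom ∧ LocallyOfFinitePresentation (D.obj k).hom) ∧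
      (∀ k, IsClosedImmersion (π.app k).left) ∧ ∀ (k l : Jᵒᵖ) (a : k ⟶ l), IsClosedImmersion (D.map a).left := by
  haveI : CompactSpace X := QuasiCompact.compactSpace_of_compactSpace f
  haveI : QuasiSeparatedSpace X := quasiSeparatedSpace_of_quasiSeparated f
  obtain ⟨P, i, p, -, hp, hpc, hpq, hsep, hcl, hip⟩ := exists_factor f
  haveI := hcl inferInstance
  haveI := hsep inferInstance
  haveI : CompactSpace P := QuasiCompact.compactSpace_of_compactSpace p
  haveI : QuasiSeparatedSpace P := quasiSeparatedSpace_of_quasiSeparated p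
  haveI : UniversallyClosed (i ≫ p) := by rw [hip]; infer_instance
  obtain ⟨K₀, hK₀⟩ := exists_stage_isProper i p
  have hle : K₀.1 ≤ i.ker := K₀.2.1
  let P' := K₀.1.subscheme
  let i' : X ⟶ P' := IsClosedImmersion.lift K₀.1.subschemeι i (by rw [IdealSheafData.ker_subschemeι]; exact hle)
  have hi' : i' ≫ K₀.1.subschemeι = i := IsClosedImmersion.lift_fac _ _ _
  haveI : IsClosedImmersion (i' ≫ K₀.1.subschemeι) := by rw [hi']; infer_instance
  haveI := IsClosedImmersion.of_comp i' K₀.1.subschemeι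
  haveI := hK₀ K₀ le_rfl
  haveI := lfp_subschemeι K₀.2.2
  haveI : CompactSpace P' := QuasiCompact.compactSpace_of_compactSpace K₀.1.subschemeι
  haveI : QuasiSeparatedSpace P' := quasiSeparatedSpace_of_quasiSeparated K₀.1.subschemeι
  obtain ⟨J, _, _, _, D, π, hlim, hD, hπ, htr⟩ := exists_closed_system i' (K₀.1.subschemeι ≫ p) f
    (by rw [← Category.assoc, hi', hip])
  refine ⟨J, inferInstance, inferInstance, inferInstance, D, π, hlim, fun k => ?_, hπ, htr⟩
  obtain ⟨z, hz, hzf, hzp, -, -⟩ := hD k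
  rw [← hzp]
  exact ⟨inferInstance, inferInstance⟩

end Groth.Agent.LimitsH94.Approx
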