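import Groth.Agent.LimitsH94.Approx.Proper
import Groth.Agent.LimitsH94.Approx.Arrow
import Groth.Agent.MorLib.BaseChangeLim
import Groth.Agent.S0591
import Groth.Agent.S2074

/-! A proper morphism is a limit of proper morphisms between schemes of finite type over the integers. -/

set_option autoImplicit false
set_option backward.isDefEq.respectTransparency false
set_option backward.isDefEq.respectTransparency.types false
set_option linter.style.haveILetI false
universe u

open CategoryTheory Limits AlgebraicGeometry Opposite TopologicalSpace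
open Scheme (IdealSheafData)
open Groth.Agent.MorLib.IdealFG

namespace Groth.Agent.LimitsH94.Approx

/-- The ideal of a closed subscheme of a limit is generated by the ideals of its images in the stages. -/
theorem ker_le_iSup_comap {I : Type u} [SmallCategory I] [IsCofiltered I] {D : I ⥤ Scheme.{u}} {c : Cone D}
    (hc : IsLimit c) [∀ {i j} (f : i ⟶ j), IsAffineHom (D.map f)] {X : Scheme.{u}} (i : X ⟶ c.pt)
    [QuasiCompact i] : i.ker ≤ ⨆ a, (i ≫ c.π.app a).ker.comap (c.π.app a) := by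
  obtain ⟨i₀⟩ := IsCofiltered.nonempty (C := I)
  haveI : ∀ a, IsAffineHom (c.π.app a) := fun a => isAffineHom_π_app D c hc a
  refine IdealSheafData.le_of_iSup_eq_top
    (fun U : (D.obj i₀).affineOpens => ⟨c.π.app i₀ ⁻¹ᵁ U.1, U.2.preimage _⟩) ?_ fun U x hx => ?_
  · refine top_le_iff.1 fun x _ => ?_
    obtain ⟨U, hU, hxU, -⟩ :=
      exists_isAffineOpen_mem_and_subset (x := c.π.app i₀ x) (U := (⊤ : (D.obj i₀).Opens)) trivial
    exact Opens.mem_iSup.2 ⟨⟨U, hU⟩, hxU⟩
  · obtain ⟨j, f, t, e, ht⟩ := exists_appLE_π_eq hc U.2 x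
    let W : (D.obj j).affineOpens := ⟨D.map f ⁻¹ᵁ U.1, U.2.preimage _⟩
    have hW : c.π.app j ⁻¹ᵁ W.1 = c.π.app i₀ ⁻¹ᵁ U.1 := by
      show c.π.app j ⁻¹ᵁ (D.map f ⁻¹ᵁ U.1) = _
      rw [← Scheme.Hom.comp_preimage, c.w]
    have h1 : (i.app (c.π.app i₀ ⁻¹ᵁ U.1)).hom x = 0 := by
      rw [Scheme.Hom.ker_apply, RingHom.mem_ker] at hx
      exact hx
    have h2 : t ∈ (i ≫ c.π.app j).ker.ideal W := by
      rw [Scheme.Hom.ker_apply, RingHom.mem_ker]
      have h3 : (i ≫ c.π.app j).app W.1 ≫ X.presheaf.map (eqToHom (show i ⁻¹ᵁ (c.π.app i₀ ⁻¹ᵁ U.1) =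
          (i ≫ c.π.app j) ⁻¹ᵁ W.1 by rw [Scheme.Hom.comp_preimage, hW])).op =
          (c.π.app j).appLE W.1 _ e ≫ i.app (c.π.app i₀ ⁻¹ᵁ U.1) := by
        rw [Scheme.Hom.app_eq_appLE, Scheme.Hom.app_eq_appLE, Scheme.Hom.appLE_map, Scheme.Hom.appLE_comp_appLE]
      have h4 := congrArg (fun φ => φ.hom t) h3
      simp only [CommRingCat.hom_comp, RingHom.comp_apply] at h4
      rw [ht] at h4
      exact (ConcreteCategory.bijective_of_isIso _).1 ((h4.trans h1).trans (map_zero _).symm)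
    refine (le_iSup (fun a => (i ≫ c.π.app a).ker.comap (c.π.app a)) j) _ ?_
    rw [ModPairLib.ideal_comap (i ≫ c.π.app j).ker (c.π.app j) W ⟨c.π.app i₀ ⁻¹ᵁ U.1, U.2.preimage _⟩ e]
    exact ht ▸ Ideal.mem_map_of_mem _ h2

/-- A closed subscheme of a limit is the limit of its images in the stages. -/
theorem ker_le_ker_of_stages {I : Type u} [SmallCategory I] [IsCofiltered I] {D : I ⥤ Scheme.{u}} {c : Cone D}
    (hc : IsLimit c) [∀ {i j} (f : i ⟶ j), IsAffineHom (D.map f)] {X T : Scheme.{u}} (i : X ⟶ c.pt)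
    [QuasiCompact i] (g : T ⟶ c.pt) (h : ∀ a, (i ≫ c.π.app a).ker ≤ (g ≫ c.π.app a).ker) : i.ker ≤ g.ker := by
  rw [← IdealSheafData.map_bot g, IdealSheafData.le_map_iff_comap_le]
  refine le_trans (IdealSheafData.comap_mono g (ker_le_iSup_comap hc i)) ?_
  beta_reduce
  rw [(IdealSheafData.map_gc g).l_iSup]
  refine iSup_le fun a => ?_
  rw [← IdealSheafData.comap_comp, ← IdealSheafData.le_map_iff_comap_le, IdealSheafData.map_bot]
  exact h a

/-- A proper morphism is the limit of proper morphisms between schemes of finite type over the integers. -/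
theorem exists_proper_arrow {X S : Scheme.{u}} (f : X ⟶ S) [IsProper f] [CompactSpace S] [QuasiSeparatedSpace S] :
    ∃ (I : Type u) (_ : SmallCategory I) (_ : IsCofiltered I) (DX DS : I ⥤ Scheme.{u}) (φ : DX ⟶ DS)
      (πX : (Functor.const I).obj X ⟶ DX) (πS : (Functor.const I).obj S ⟶ DS)
      (_ : IsLimit (Cone.mk X πX)) (_ : IsLimit (Cone.mk S πS)),
      (∀ (i j : I) (a : i ⟶ j), IsAffineHom (DX.map a) ∧ IsAffineHom (DS.map a)) ∧
      (∀ i, IsProper (φ.app i) ∧ FTZ (DS.obj i)) ∧ ∀ i, πX.app i ≫ φ.app i = f ≫ πS.app i := by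
  obtain ⟨J, _, _, _, E, σ, -, hE, hσ, -⟩ := exists_proper_system f
  obtain ⟨k⟩ : Nonempty Jᵒᵖ := inferInstance
  let p : (E.obj k).left ⟶ S := (E.obj k).hom
  let i : X ⟶ (E.obj k).left := (σ.app k).left
  haveI : IsClosedImmersion i := hσ k
  haveI : IsProper p := (hE k).1
  haveI : LocallyOfFinitePresentation p := (hE k).2
  have hip : i ≫ p = f := Over.w (σ.app k)
  obtain ⟨A⟩ := exists_appr S
  obtain ⟨i₀, Y₀, q₀, gY₀, hq₀, hq₀c, hq₀s, hpb₀⟩ := Groth.Agent.S0591.result A.D (Cone.mk S A.π) A.lim _ p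
  haveI : CompactSpace Y₀ := QuasiCompact.compactSpace_of_compactSpace q₀
  haveI : QuasiSeparatedSpace Y₀ := quasiSeparatedSpace_of_quasiSeparated q₀
  obtain ⟨i₁, φ, Y₁', S₁', q₁', e₁, pS, pY, hpS, hpY, hq₁'⟩ :=
    Groth.Agent.S2074.result A.D (Cone.mk S A.π) A.lim i₀ q₀ (𝟙 _) p (𝟙 S) (A.π.app i₀) gY₀
      (IsPullback.of_vert_isIso ⟨by simp⟩) hpb₀
  haveI : IsIso e₁ := hpS.isIso_snd_of_isIso
  let q₁ : Y₁' ⟶ A.D.obj i₁ := q₁' ≫ e₁
  haveI : IsProper q₁ := inferInstanceAs (IsProper (q₁' ≫ e₁))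
  have hpb₁' : IsPullback pY q₁ q₀ (A.D.map φ) := by
    have := hpY.paste_vert hpS
    simpa [q₁] using this
  let gY₁ := hpb₁'.lift gY₀ (p ≫ A.π.app i₁) (by
    rw [Category.assoc, ← A.π.naturality φ, hpb₀.w]; simp)
  have hpb₁ : IsPullback gY₁ p q₁ (A.π.app i₁) := by
    refine IsPullback.of_right ?_ (hpb₁'.lift_snd _ _ _) hpb₁'
    rw [hpb₁'.lift_fst, ← A.π.naturality φ]
    simpa using hpb₀
  let P := MorLib.BC.diag A.D q₁
  let cP : Cone P := MorLib.BC.cone A.D (c := Cone.mk S A.π) q₁ hpb₁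
  have hcP : IsLimit cP := MorLib.BC.isLimitCone A.D (c := Cone.mk S A.π) q₁ hpb₁ A.lim
  haveI : ∀ {a b : Over i₁} (m : a ⟶ b), IsAffineHom (P.map m) := fun m => MorLib.BC.isAffineHom_map A.D q₁ m
  haveI : ∀ a, IsAffineHom (cP.π.app a) := fun a => isAffineHom_π_app P cP hcP a
  let z : ∀ a : Over i₁, X ⟶ P.obj a := fun a => i ≫ cP.π.app a
  have hz : ∀ {a b : Over i₁} (m : a ⟶ b), (z b).ker ≤ (z a).ker.map (P.map m) := fun {a b} m => by
    rw [IdealSheafData.map_ker, Category.assoc, cP.w]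
  let zm : ∀ {a b : Over i₁}, (a ⟶ b) → ((z a).image ⟶ (z b).image) := fun {a b} m =>
    IdealSheafData.subschemeMap _ _ (P.map m) (hz m)
  have hzm : ∀ {a b : Over i₁} (m : a ⟶ b), zm m ≫ (z b).imageι = (z a).imageι ≫ P.map m := fun m =>
    IdealSheafData.subschemeMap_subschemeι _ _ _ _
  let DX : Over i₁ ⥤ Scheme.{u} :=
    { obj := fun a => (z a).image
      map := fun m => zm m
      map_id := fun a => by rw [← cancel_mono (z a).imageι, hzm]; simp
      map_comp := fun {a b d} m n => by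
        rw [← cancel_mono (z d).imageι, hzm, Category.assoc, hzm, reassoc_of% (hzm m), P.map_comp] }
  let DS : Over i₁ ⥤ Scheme.{u} := Over.forget i₁ ⋙ A.D
  let ψ : DX ⟶ DS :=
    { app := fun a => (z a).imageι ≫ pullback.snd q₁ (A.D.map a.hom)
      naturality := fun a b m => by
        show zm m ≫ (z b).imageι ≫ pullback.snd _ _ = ((z a).imageι ≫ pullback.snd _ _) ≫ A.D.map m.left
        rw [reassoc_of% (hzm m), Category.assoc]
        exact congrArg (_ ≫ ·) (MorLib.BC.map_snd A.D q₁ m) }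
  let πX : (Functor.const (Over i₁)).obj X ⟶ DX :=
    { app := fun a => (z a).toImage
      naturality := fun a b m => by
        show 𝟙 X ≫ (z b).toImage = (z a).toImage ≫ zm m
        rw [← cancel_mono (z b).imageι, Category.assoc, Category.assoc, hzm, Scheme.Hom.toImage_imageι,
          Scheme.Hom.toImage_imageι_assoc, Category.id_comp, Category.assoc, cP.w] }
  have hπ : ∀ a, πX.app a ≫ (z a).imageι = i ≫ cP.π.app a := fun a => (z a).toImage_imageι
  have hlift : ∀ s : Cone DX, ∃ g : s.pt ⟶ X, ∀ a, g ≫ πX.app a = s.π.app a := fun s => by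
    let t : Cone P :=
      { pt := s.pt
        π :=
          { app := fun a => s.π.app a ≫ (z a).imageι
            naturality := fun a b m => by
              show 𝟙 s.pt ≫ s.π.app b ≫ (z b).imageι = (s.π.app a ≫ (z a).imageι) ≫ P.map m
              rw [Category.id_comp, Category.assoc, ← hzm m, ← Category.assoc]
              exact congrArg (· ≫ (z b).imageι) (s.w m).symm } }
    have hle : i.ker ≤ (hcP.lift t).ker := ker_le_ker_of_stages hcP i (hcP.lift t) fun a => by
      rw [hcP.fac t a]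
      exact (IdealSheafData.ker_subschemeι _).ge.trans (Scheme.Hom.le_ker_comp _ _)
    refine ⟨IsClosedImmersion.lift i (hcP.lift t) hle, fun a => ?_⟩
    rw [← cancel_mono (z a).imageι, Category.assoc, hπ, IsClosedImmersion.lift_fac_assoc, hcP.fac]
  choose lift hliftfac using hlift
  have huniq : ∀ {T : Scheme.{u}} (m n : T ⟶ X), (∀ a, m ≫ πX.app a = n ≫ πX.app a) → m = n :=
    fun {T} m n h => by
      rw [← cancel_mono i]
      exact hcP.hom_ext fun a => by
        have := congrArg (· ≫ (z a).imageι) (h a)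
        simpa [hπ] using this
  let πS : (Functor.const (Over i₁)).obj S ⟶ DS := ((Cone.mk S A.π).whisker (Over.forget i₁)).π
  refine ⟨Over i₁, inferInstance, inferInstance, DX, DS, ψ, πX, πS,
    { lift := lift
      fac := hliftfac
      uniq := fun s m hm => huniq _ _ fun a => (hm a).trans (hliftfac s a).symm },
    (Functor.Initial.isLimitWhiskerEquiv (Over.forget i₁) _).symm A.lim,
    fun a b m => ⟨?_, A.aff _ _ _⟩, fun a => ⟨?_, A.ftz _⟩, fun a => ?_⟩
  · show IsAffineHom (zm m)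
    haveI : IsAffineHom (zm m ≫ (z b).imageι) := by rw [hzm]; infer_instance
    exact IsAffineHom.of_comp (zm m) (z b).imageι
  · show IsProper ((z a).imageι ≫ pullback.snd q₁ (A.D.map a.hom))
    haveI : IsProper (pullback.snd q₁ (A.D.map a.hom)) := MorphismProperty.pullback_snd _ _ inferInstance
    infer_instance
  · show (z a).toImage ≫ (z a).imageι ≫ pullback.snd q₁ (A.D.map a.hom) = f ≫ A.π.app a.left
    rw [Scheme.Hom.toImage_imageι_assoc, ← hip, Category.assoc, Category.assoc]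
    exact congrArg (i ≫ ·) (MorLib.BC.proj_snd A.D (c := Cone.mk S A.π) q₁ hpb₁ a)

end Groth.Agent.LimitsH94.Approx
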